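import Groth.Agent.NumTriv23.Basic
import Groth.Agent.Mumford23.Closed
import Groth.Agent.Coherent.RpushComp
import Groth.Agent.SerreDual.Projective

/-!
# Numerical invariance of Euler characteristics, uniform vanishing
-/

set_option autoImplicit false
set_option linter.style.haveILetI false
set_option linter.unusedSectionVars false
set_option backward.isDefEq.respectTransparency.types false

universe u

open CategoryTheory CategoryTheory.Limits AlgebraicGeometry TopologicalSpace Opposite
open Groth.Agent.Coherent Groth.Agent.PicLib Groth.Agent.AmpleLib Groth.Agent.EulerLib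
open Groth.Agent.CAlgH3 Groth.Agent.CAlgH3.ModCohSeq Groth.Agent.CAlgH3.PSheaf Groth.Agent.CAlgH3.PSheafSeq Groth.Agent.CAlgH3.PSheafBound
open Groth.Agent.H0Growth23 Groth.Agent.CAlgH3.PSheafGen

noncomputable section

namespace Groth.Agent.NumTriv23

variable {X : Scheme.{u}} (k : Type u) [Field k] [X.Over (Spec (CommRingCat.of k))]
  [IsProper (X ↘ Spec (CommRingCat.of k))]

theorem hh_twCl (G : X.Modules) (i : ℕ) (e c : InvCl X) : hh k (twCl G e) i c = hh k G i (e * c) := by
  rw [hh_tensor k (isInvertible_repCl e), mk_repCl]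

theorem chiCl_eq_euler (G : X.Modules) (c : InvCl X) : chiCl k G c = Curv2.euler k X (twCl G c) := by
  conv_lhs => rw [← mk_repCl c]
  exact chiCl_mk k G _

theorem chiCl_twCl (G : X.Modules) (e c : InvCl X) : chiCl k (twCl G e) c = chiCl k G (e * c) := by
  conv_rhs => rw [← mk_repCl e]
  exact (chiCl_mul k G (isInvertible_repCl e) c).symm

theorem chiCl_eq_of_vanish {G : X.Modules} {c : InvCl X} (h : ∀ i : ℕ, 2 ≤ i → hh k G i c = 0)
    (hG : Coh.IsCoh G) : chiCl k G c = (hh k G 0 c : ℤ) - hh k G 1 c := by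
  rw [chiCl_eq_euler, euler_eq_sum k X _ 1 fun q hq => Mumford23.subsingleton_of_finrank_eq_zero k
    (isCoh_twCl k hG c) q (h q hq)]
  simp [Finset.sum_range_succ, hh]
  ring

theorem exists_shortExact_of_iso {C : Type*} [Category C] [Limits.HasZeroMorphisms C] {S : ShortComplex C}
    (hS : S.ShortExact) {B : C} (φ : S.X₂ ≅ B) :
    ∃ (f' : S.X₁ ⟶ B) (g' : B ⟶ S.X₃) (w' : f' ≫ g' = 0), (ShortComplex.mk f' g' w').ShortExact :=
  have w : (S.f ≫ φ.hom) ≫ φ.inv ≫ S.g = 0 := by rw [Category.assoc, φ.hom_inv_id_assoc, S.zero]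
  ⟨S.f ≫ φ.hom, φ.inv ≫ S.g, w,
    ShortComplex.shortExact_of_iso (ShortComplex.isoMk (S₁ := S) (S₂ := ShortComplex.mk _ _ w)
      (Iso.refl _) φ (Iso.refl _) (Category.id_comp _)
      ((φ.hom_inv_id_assoc _).trans (Category.comp_id _).symm)) hS⟩

variable [Infinite k] {r : ℕ} (ι : X ⟶ CohB1.ProjSpace r k) [IsClosedImmersion ι]

/-- The hyperplane module. -/
abbrev hypMod : X.Modules := (Scheme.Modules.pullback ι).obj (Twist.twistProjSpace r k 1)

/-- The hyperplane class. -/
abbrev hyp : InvCl X := InvCl.mk (hypMod k ι) (PicLoc.isInvertible_pullback ι (isInvertible_twistProj 1))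

theorem exists_hyp_section {S : Set X} (hS : S.Finite) :
    ∃ b : Γ((hypMod k ι), (⊤ : X.Opens)), S ⊆ (glocus (hypMod k ι) b : Set X) := by
  obtain ⟨b, hb⟩ := Mumford23.exists_section_glocus (ι '' S) (hS.image _)
  exact ⟨pullSec ι b, fun x hx => (glocus_pullSec ι (isInvertible_twistProj 1) b).ge (hb ⟨x, hx, rfl⟩)⟩

theorem nonempty_push_hyp (G : X.Modules) (c : InvCl X) (l : ℕ) :
    Nonempty ((Coh.push ι).obj (twCl G (c * hyp k ι ^ l)) ≅
      CohB1.tensorMod ((Coh.push ι).obj (twCl G c)) (Twist.twistProjSpace r k (l : ℤ))) := by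
  obtain ⟨e⟩ := Mumford23.nonempty_push_twist (L := (hypMod k ι)) ι ⟨Iso.refl _⟩ (twCl G c) l
  have hpow := isInvertible_tensorPow (PicLoc.isInvertible_pullback ι (isInvertible_twistProj (k := k) (r := r) 1)) l
  obtain ⟨e₁⟩ := nonempty_twCl_mul G c (InvCl.mk _ hpow)
  obtain ⟨e₂⟩ := nonempty_iso_repCl _ hpow
  rw [show hyp k ι ^ l = InvCl.mk _ hpow from (InvCl.mk_tensorPow _ l).symm]
  exact ⟨(Scheme.Modules.pushforward ι).mapIso (e₁.symm ≪≫ Coherent.tensorIso (Iso.refl _) e₂) ≪≫ e⟩

theorem hh_eq_push (hι : ι ≫ CohB1.ProjSpace.toSpec r k = X ↘ Spec (CommRingCat.of k)) {G : X.Modules}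
    (hG : Coh.IsCoh G) (c : InvCl X) (l i : ℕ) :
    hh k G i (c * hyp k ι ^ l) = Module.finrank k (Coh.HH (CohB1.ProjSpace r k)
      (CohB1.tensorMod ((Coh.push ι).obj (twCl G c)) (Twist.twistProjSpace r k (l : ℤ))) i) := by
  obtain ⟨e⟩ := nonempty_push_hyp k ι G c l
  haveI := (isCoh_twCl k hG (c * hyp k ι ^ l)).1
  haveI : (CohB1.ProjSpace r k).IsSeparated := EulerLib.isSeparated_of_proper k
  exact ((SerreDual.hpush ι k hι (twCl G (c * hyp k ι ^ l)) i).finrank_eq).trans
    (CurveRR24.finrank_HH_congr k e i)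

theorem eventually_vanish (hι : ι ≫ CohB1.ProjSpace.toSpec r k = X ↘ Spec (CommRingCat.of k)) {G : X.Modules}
    (hG : Coh.IsCoh G) (c : InvCl X) :
    ∃ l₀ : ℕ, ∀ l, l₀ ≤ l → ∀ i, 1 ≤ i → hh k G i (c * hyp k ι ^ l) = 0 := by
  haveI : IsLocallyNoetherian X := LocallyOfFiniteType.isLocallyNoetherian ι
  obtain ⟨d₀, hd₀⟩ := exists_forall_W _ (isCoh_push_finite ι (isCoh_twCl k hG c))
  refine ⟨d₀.toNat, fun l hl i hi => ?_⟩
  rw [hh_eq_push k ι hι hG c l i]
  haveI : Subsingleton (Coh.HH (CohB1.ProjSpace r k)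
      (CohB1.tensorMod ((Coh.push ι).obj (twCl G c)) (Twist.twistProjSpace r k (l : ℤ))) i) :=
    hd₀ (l : ℤ) (by omega) i hi
  exact Module.finrank_zero_of_subsingleton

/-- The induction step for numerical invariance and uniform vanishing. -/
theorem chi_and_vanish (hι : ι ≫ CohB1.ProjSpace.toSpec r k = X ↘ Spec (CommRingCat.of k)) :
    ∀ d : ℕ, ∀ G : X.Modules, Coh.IsCoh G → topologicalKrullDim (CohB1.support G) < (d : WithBot ℕ∞) →
      (∀ c, IsNum k c → chiCl k G c = chiCl k G 1) ∧
      ∃ m₀ : ℕ, ∀ m, m₀ ≤ m → ∀ c, IsNum k c → ∀ i, 1 ≤ i → hh k G i (c * hyp k ι ^ m) = 0 := by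
  haveI := isNoetherian_of_proper (X := X) k
  haveI := isSeparated_of_proper (X := X) k
  have hLi : PicF.IsInvertible (hypMod k ι) := PicLoc.isInvertible_pullback ι (isInvertible_twistProj 1)
  have hLa : CohB1.IsAmple (hypMod k ι) :=
    isAmple_pullback_of_isAffineHom ι (SerreDual.isAmple_projSpace_one r k)
  intro d
  induction d with
  | zero =>
    intro G hG hdim
    have h0 : CohB1.support G = ∅ := Set.eq_empty_of_forall_notMem fun y hy => by
      haveI : Nonempty (IrreducibleCloseds (CohB1.support G)) :=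
        ⟨⟨closure {(⟨y, hy⟩ : CohB1.support G)}, isIrreducible_singleton.closure, isClosed_closure⟩⟩
      exact not_lt.2 (Order.krullDim_nonneg (α := IrreducibleCloseds (CohB1.support G))) (by exact_mod_cast hdim)
    have hz : ∀ (e : InvCl X) i, Subsingleton (Coh.HH X (twCl G e) i) := fun e i => subsingleton_HH_of_isZero
      (isZero_of_support_eq_empty ((support_twist (isInvertible_repCl _) G).trans h0)) i
    have hh0 : ∀ (e : InvCl X) i, hh k G i e = 0 := fun e i => by
      haveI := hz e i
      exact Module.finrank_zero_of_subsingleton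
    refine ⟨fun c _ => ?_, 0, fun m _ c _ i _ => hh0 _ i⟩
    rw [chiCl_eq_of_vanish k (fun i _ => hh0 c i) hG, chiCl_eq_of_vanish k (fun i _ => hh0 1 i) hG]
    simp [hh0]
  | succ d ih =>
    intro G hG hdim
    -- multiplication by a section of the hyperplane class
    obtain ⟨b, hb⟩ := exists_hyp_section k ι (AssSch12.finite_ass G hG)
    haveI := Mumford23.mono_mulSec hG.1 b hb
    let C := cokernel (mulSec G b)
    have hGL := isCoh_twist hLi hG
    have hC : Coh.IsCoh C := isCoh_cokernel _ hG.1 hGL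
    have hCd := dim_cokernel_lt k hLi hG b hb hdim
    obtain ⟨hCchi, mC, hCv⟩ := ih C hC hCd
    have hS : (ShortComplex.mk (mulSec G b) (cokernel.π _) (cokernel.condition _)).ShortExact :=
      { exact := ShortComplex.exact_cokernel _ }
    have hadd : ∀ x, chiCl k G (hyp k ι * x) = chiCl k G x + chiCl k C x := fun x => by
      rw [chiCl_mul k G hLi x]
      exact congrFun (chiCl_additive k _ hS hG hGL hC) x
    -- translations by numerically trivial classes
    have htrans : ∀ c, IsNum k c → ∀ x, IsNum k x →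
        chiCl k G (c * x) - chiCl k G x = chiCl k G c - chiCl k G 1 := by
      intro c hc
      obtain ⟨P, Q, hP, hQ, hPQ, ⟨bP, hbP⟩, ⟨bQ, hbQ⟩⟩ :=
        exists_sections_diff k ⟨_, hLa⟩ c (AssSch12.finite_ass G hG)
      haveI := Mumford23.mono_mulSec hG.1 bP hbP
      haveI := Mumford23.mono_mulSec hG.1 bQ hbQ
      have hGP := isCoh_twist hP hG
      have hGQ := isCoh_twist hQ hG
      have hCP : Coh.IsCoh (cokernel (mulSec G bP)) := isCoh_cokernel _ hG.1 hGP
      have hCQ : Coh.IsCoh (cokernel (mulSec G bQ)) := isCoh_cokernel _ hG.1 hGQ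
      obtain ⟨hiP, -⟩ := ih _ hCP (dim_cokernel_lt k hP hG bP hbP hdim)
      obtain ⟨hiQ, -⟩ := ih _ hCQ (dim_cokernel_lt k hQ hG bQ hbQ hdim)
      have hSP : (ShortComplex.mk (mulSec G bP) (cokernel.π _) (cokernel.condition _)).ShortExact :=
        { exact := ShortComplex.exact_cokernel _ }
      have hSQ : (ShortComplex.mk (mulSec G bQ) (cokernel.π _) (cokernel.condition _)).ShortExact :=
        { exact := ShortComplex.exact_cokernel _ }
      have key : ∀ x, IsNum k x → chiCl k G (c * x) - chiCl k G x =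
          chiCl k (cokernel (mulSec G bP)) 1 - chiCl k (cokernel (mulSec G bQ)) 1 := fun x hx => by
        have e1 := congrFun (chiCl_additive k _ hSP hG hGP hCP) x
        have e2 := congrFun (chiCl_additive k _ hSQ hG hGQ hCQ) (c * x)
        simp only [Pi.add_apply] at e1 e2
        rw [← chiCl_mul k G hP x] at e1
        rw [← chiCl_mul k G hQ (c * x), ← mul_assoc, mul_comm (InvCl.mk Q hQ) c, hPQ] at e2
        rw [hiP x hx] at e1
        rw [hiQ (c * x) (IsNum.mul k hc hx)] at e2
        omega
      intro x hx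
      rw [key x hx, ← key 1 (isNum_one k), mul_one]
    have hshift : ∀ m c, IsNum k c →
        chiCl k G (c * hyp k ι ^ m) - chiCl k G (hyp k ι ^ m) = chiCl k G c - chiCl k G 1 := by
      intro m
      induction m with
      | zero => intro c _; simp
      | succ m ihm =>
        intro c hc
        have e1 := hadd (c * hyp k ι ^ m)
        have e2 := hadd (hyp k ι ^ m)
        have hCm : chiCl k C (c * hyp k ι ^ m) = chiCl k C (hyp k ι ^ m) := by
          obtain ⟨h', -⟩ := ih (twCl C (hyp k ι ^ m)) (isCoh_twCl k hC _) (by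
            show topologicalKrullDim (CohB1.support (CohB1.tensorMod C (repCl (hyp k ι ^ m)))) < _
            rwa [support_twist (isInvertible_repCl _)])
          have := h' c hc
          rwa [chiCl_twCl, chiCl_twCl, mul_one, mul_comm] at this
        rw [mul_left_comm, ← pow_succ'] at e1
        rw [← pow_succ'] at e2
        have := ihm c hc
        omega
    -- vanishing in degrees at least two
    have hv2 : ∀ m, mC ≤ m → ∀ c, IsNum k c → ∀ i, 2 ≤ i → hh k G i (c * hyp k ι ^ m) = 0 := by
      intro m hm c hc i hi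
      obtain ⟨l₀, hl₀⟩ := eventually_vanish k ι hι hG c
      suffices key : ∀ n m, mC ≤ m → l₀ ≤ m + n → hh k G i (c * hyp k ι ^ m) = 0 from key l₀ m hm (by omega)
      intro n
      induction n with
      | zero => exact fun m _ h => hl₀ m h i (by omega)
      | succ n ihn =>
        intro m hm h
        have h1 := (hh_triangle k hS hG hGL hC i (c * hyp k ι ^ m)).2
        dsimp only at h1
        rw [if_neg (by omega), hh_tensor k hLi, mul_left_comm, ← pow_succ',
          ihn (m + 1) (by omega) (by omega), hCv m hm c hc (i - 1) (by omega)] at h1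
        omega
    -- numerical invariance
    have hchi : ∀ c, IsNum k c → chiCl k G c = chiCl k G 1 := by
      obtain ⟨B, hB⟩ := exists_h0_bound_num k ⟨_, hLa⟩ (isCoh_twCl k hG (hyp k ι ^ mC))
      have hle : ∀ c, IsNum k c → chiCl k G c - chiCl k G 1 ≤ (B : ℤ) - chiCl k G (hyp k ι ^ mC) := fun c hc => by
        rw [← hshift mC c hc, chiCl_eq_of_vanish k (hv2 mC le_rfl c hc) hG]
        have := hB c hc
        rw [hh_twCl, mul_comm] at this
        omega
      have hnn : ∀ c, IsNum k c → chiCl k G c - chiCl k G 1 ≤ 0 := fun c hc => by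
        have hpow : ∀ n : ℕ, chiCl k G (c ^ n) - chiCl k G 1 = n * (chiCl k G c - chiCl k G 1) := fun n => by
          induction n with
          | zero => simp
          | succ n ihn =>
            have := htrans c hc (c ^ n) (IsNum.pow k hc n)
            rw [← pow_succ'] at this
            push_cast
            linarith
        by_contra hpos
        set N : ℕ := ((B : ℤ) - chiCl k G (hyp k ι ^ mC)).toNat + 1 with hNdef
        have h := hle (c ^ N) (IsNum.pow k hc N)
        rw [hpow] at h
        have h1 : (N : ℤ) * 1 ≤ N * (chiCl k G c - chiCl k G 1) :=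
          mul_le_mul_of_nonneg_left (by omega) (by omega)
        omega
      intro c hc
      obtain ⟨c', hc'⟩ := exists_inv (isInvertible_repCl c)
      rw [mk_repCl] at hc'
      have h := htrans c hc c' (IsNum.of_mul_eq_one k hc hc')
      rw [hc'] at h
      have := hnn c hc
      have := hnn c' (IsNum.of_mul_eq_one k hc hc')
      omega
    refine ⟨hchi, ?_⟩
    -- vanishing in degree one
    let M := mC + r + 1
    obtain ⟨B, hB⟩ := exists_h0_bound_num k ⟨_, hLa⟩ (isCoh_twCl k hG (hyp k ι ^ M))
    let N : ℕ := ((B : ℤ) - chiCl k G (hyp k ι ^ M)).toNat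
    have hN : ∀ c, IsNum k c → hh k G 1 (c * hyp k ι ^ M) ≤ N := fun c hc => by
      have h0 := hB c hc
      rw [hh_twCl, mul_comm] at h0
      have h1 := chiCl_eq_of_vanish k (hv2 M (by omega) c hc) hG
      have h2 := hshift M c hc
      rw [hchi c hc] at h2
      omega
    refine ⟨M + N, fun m hm c hc i hi => ?_⟩
    by_cases hi2 : 2 ≤ i
    · exact hv2 m (by omega) c hc i hi2
    obtain rfl : i = 1 := by omega
    clear hi hi2
    suffices hbase : hh k G 1 (c * hyp k ι ^ (M + N)) = 0 by
      obtain ⟨j, rfl⟩ := Nat.exists_eq_add_of_le hm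
      clear hm
      induction j with
      | zero => exact hbase
      | succ j ihj =>
        have h1 := (hh_triangle k hS hG hGL hC 1 (c * hyp k ι ^ (M + N + j))).1
        dsimp only at h1
        rw [hh_tensor k hLi, mul_left_comm, ← pow_succ', hCv (M + N + j) (by omega) c hc 1 le_rfl, ihj] at h1
        rw [show M + N + (j + 1) = M + N + j + 1 by omega]
        exact Nat.le_zero.1 h1
    -- transport to projective space
    set e := c * hyp k ι ^ M with he
    have hTS := EulerLib.twistSeq_shortExact (isInvertible_repCl e) hS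
    have hPS := hTS.map_of_exact (Coh.push ι)
    let F := (Coh.push ι).obj (twCl G e)
    let F'' := (Coh.push ι).obj (twCl C e)
    have hF : Coh.IsCoh F := isCoh_push_finite ι (isCoh_twCl k hG e)
    have hF'' : Coh.IsCoh F'' := isCoh_push_finite ι (isCoh_twCl k hC e)
    have hmid : Nonempty ((Coh.push ι).obj (twCl (CohB1.tensorMod G (hypMod k ι)) e) ≅
        CohB1.tensorMod F (Twist.twistProjSpace r k 1)) := by
      obtain ⟨a⟩ := nonempty_push_hyp k ι G e 1
      obtain ⟨a₁⟩ := nonempty_twCl_mul G (hyp k ι) e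
      obtain ⟨a₂⟩ := nonempty_twCl G (hypMod k ι) hLi
      rw [pow_one, mul_comm] at a
      exact ⟨(Coh.push ι).mapIso (Coherent.tensorIso a₂.symm (Iso.refl _) ≪≫ a₁) ≪≫ a ≪≫
        eqToIso (congrArg (fun t : ℤ => CohB1.tensorMod F (Twist.twistProjSpace r k t)) Nat.cast_one)⟩
    obtain ⟨φ⟩ := hmid
    obtain ⟨f', g', w', hS'⟩ :
        ∃ (f' : F ⟶ CohB1.tensorMod F (Twist.twistProjSpace r k 1))
          (g' : CohB1.tensorMod F (Twist.twistProjSpace r k 1) ⟶ F'') (w' : f' ≫ g' = 0),
          (ShortComplex.mk f' g' w').ShortExact := exists_shortExact_of_iso hPS φ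
    have hW : ∀ i : ℕ, 1 ≤ i → ∀ s : ℤ, 0 - (i : ℤ) ≤ s → W F'' s i := by
      intro i hi s hs
      rcases lt_or_ge r i with hir | hir
      · haveI := isNoetherian_of_proper (X := CohB1.ProjSpace r k) k
        haveI : (CohB1.ProjSpace r k).IsSeparated := EulerLib.isSeparated_of_proper k
        haveI := (isCoh_twistProj hF'' s).1
        exact EulerLib.subsingleton_HH_of_dim _ (DimLib.PN.topologicalKrullDim_projSpace (n := r) (k := k)).le hir
      · -- absorb the negative twist
        set e' := c * hyp k ι ^ mC with he'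
        have hee : e = e' * hyp k ι ^ (r + 1) := by
          rw [he, he', mul_assoc, ← pow_add]
          rfl
        obtain ⟨a⟩ := nonempty_push_hyp k ι C e' (r + 1)
        rw [← hee] at a
        obtain ⟨l, hl⟩ : ∃ l : ℕ, (l : ℤ) = ((r + 1 : ℕ) : ℤ) + s := ⟨((r + 1 : ℕ) + s).toNat, by omega⟩
        obtain ⟨a'⟩ := nonempty_twist_assoc
          (isCoh_push_finite ι (isCoh_twCl k hC e')).1 hl.symm
        refine V_of_iso (Coherent.tensorIso a (Iso.refl _) ≪≫ a').symm
          (Mumford23.subsingleton_of_finrank_eq_zero k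
            (isCoh_twistProj (isCoh_push_finite ι (isCoh_twCl k hC e')) _) i ?_)
        rw [← hh_eq_push k ι hι hC e' l i, he', mul_assoc, ← pow_add]
        exact hCv _ (by omega) c hc i hi
    have hbound : Module.finrank k (Coh.HH (CohB1.ProjSpace r k)
        (CohB1.tensorMod F (Twist.twistProjSpace r k 0)) 1) ≤ N := by
      have := hh_eq_push k ι hι hG e 0 1
      rw [pow_zero, mul_one] at this
      exact le_of_eq_of_le this.symm (hN c hc)
    have h := Mumford23.W_one_of_section hF hF'' hS' hW hbound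
    rw [pow_add, ← mul_assoc, hh_eq_push k ι hι hG e N 1]
    rw [zero_add] at h
    haveI : Subsingleton (Coh.HH (CohB1.ProjSpace r k)
        (CohB1.tensorMod F (Twist.twistProjSpace r k (N : ℤ))) 1) := h
    exact Module.finrank_zero_of_subsingleton

end Groth.Agent.NumTriv23

end
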