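import Groth.Agent.NumTriv23.Volume
import Groth.Agent.H0Growth23.GenFinite
import Groth.Agent.H0Growth23.Pullback
import Groth.Agent.Coherent.SupportPullback
import Groth.Agent.EGA43.InjFibre.Scheme
import Mathlib.Analysis.Asymptotics.Defs

/-!
# Sections of pullbacks along generically finite morphisms, over any field
-/

set_option autoImplicit false
set_option linter.style.haveILetI false
set_option linter.unusedSectionVars false
set_option backward.isDefEq.respectTransparency.types false

universe u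

open CategoryTheory CategoryTheory.Limits AlgebraicGeometry TopologicalSpace Opposite Filter
open Groth.Agent.Coherent Groth.Agent.PicLib Groth.Agent.AmpleLib Groth.Agent.EulerLib
open Groth.Agent.VarietyLib Groth.Agent.H0Growth23 Groth.Agent.AssSch12
open Groth.Agent.ModStalk

noncomputable section

namespace Groth.Agent.NumTriv23

variable (k : Type u) [Field k] {X : Scheme.{u}} [X.Over (Spec (CommRingCat.of k))]
  [IsProper (X ↘ Spec (CommRingCat.of k))]

attribute [local instance] overBC

theorem hh_bc' (K : Type u) [Field K] [Algebra k K] {G : X.Modules} (hG : Coh.IsCoh G) (i : ℕ) (c : InvCl X) :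
    hh K ((Scheme.Modules.pullback (Curv2.bcFst k X K)).obj G) i (pullHom (Curv2.bcFst k X K) c) = hh k G i c := by
  conv_lhs => rw [← mk_repCl c, pullHom_mk, hh_mk]
  exact (CurveRR24.finrank_HH_congr K (DCat.PullTensor.pullTensorIso (Curv2.bcFst k X K) G (repCl c)) i).symm.trans
    (finrank_bc k K _ (isCoh_twCl k hG c).1 i)

/-- Modules with small support have little cohomology, over any field. -/
theorem exists_bound_small (hproj : ∃ A : X.Modules, CohB1.IsAmple A) {Q : X.Modules} (hQ : Coh.IsCoh Q) {d : ℕ}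
    (hd : ∀ y ∈ CohB1.support Q, DimLib.ptDim (X ↘ Spec (CommRingCat.of k)) y < d) {L : X.Modules}
    (hL : PicF.IsInvertible L) (i : ℕ) :
    ∃ C : ℕ, ∀ m : ℕ, hh k Q i (InvCl.mk L hL ^ m) ≤ C * bnd d m := by
  haveI := isNoetherian_of_proper (X := X) k
  let K := AlgebraicClosure k
  let g := Curv2.bcFst k X K
  haveI := isNoetherian_of_proper (X := Curv2.bc k X K) K
  obtain ⟨C, hC⟩ := exists_bound_pullback K (exists_ample_bc k K hproj) (𝟙 (Curv2.bc k X K))
    (PicLoc.isInvertible_pullback g hL) d ((Scheme.Modules.pullback g).obj Q)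
    ⟨haveI := hQ.1; EGA43.InjFibre.isQCoh_pullback g Q, Groth.Agent.Coherent.isFT_pullback_qcoh g hQ.1 hQ.2⟩
    (fun y hy => lt_of_le_of_lt (DimLib.ptDim_bc_le (X ↘ Spec (CommRingCat.of k)) K y)
      (hd _ ((support_pullback_qcoh g hQ.1 hQ.2).le hy))) i
  refine ⟨C, fun m => ?_⟩
  have h := hC m
  rwa [show InvCl.mk _ (PicLoc.isInvertible_pullback (𝟙 (Curv2.bc k X K)) (PicLoc.isInvertible_pullback g hL)) =
    pullHom g (InvCl.mk L hL) from InvCl.mk_eq _ _ ((Scheme.Modules.pullbackId _).app _), ← map_pow, hh_bc' k K hQ] at h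

variable [IsIntegral X]

/-- A morphism bijective at the generic point changes cohomology by lower order terms. -/
theorem exists_hh_sub_le (hproj : ∃ A : X.Modules, CohB1.IsAmple A) {d : ℕ} (hd : topologicalKrullDim X = d)
    {F G : X.Modules} (hF : Coh.IsCoh F) (hG : Coh.IsCoh G) (φ : F ⟶ G)
    (hφ : Function.Bijective ((DerSch.stalkFunctor X (genericPoint X)).map φ))
    {L : X.Modules} (hL : PicF.IsInvertible L) (i : ℕ) :
    ∃ C : ℕ, ∀ m : ℕ, hh k F i (InvCl.mk L hL ^ m) ≤ hh k G i (InvCl.mk L hL ^ m) + C * bnd d m ∧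
      hh k G i (InvCl.mk L hL ^ m) ≤ hh k F i (InvCl.mk L hL ^ m) + C * bnd d m := by
  haveI := EulerLib.isNoetherian_of_proper (X := X) k
  let St := DerSch.stalkFunctor X (genericPoint X)
  have cK : Coh.IsCoh (kernel φ) := isCoh_kernel _ hF hG.1
  have cC : Coh.IsCoh (cokernel φ) := isCoh_cokernel _ hF.1 hG
  have hK : genericPoint X ∉ CohB1.support (kernel φ) := fun hz => hz (subsingleton_of_forall_eq 0 fun a => by
    refine (ModuleCat.mono_iff_injective (St.map (kernel.ι φ))).1 inferInstance ?_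
    refine hφ.1 ?_
    rw [← ConcreteCategory.comp_apply, ← Functor.map_comp, kernel.condition, Functor.map_zero]
    erw [map_zero, map_zero]
    rfl)
  have hC : genericPoint X ∉ CohB1.support (cokernel φ) := fun hz => hz (subsingleton_of_forall_eq 0 fun a => by
    obtain ⟨w, rfl⟩ := (ModuleCat.epi_iff_surjective (St.map (cokernel.π φ))).1 inferInstance a
    obtain ⟨v, rfl⟩ := hφ.2 w
    rw [← ConcreteCategory.comp_apply, ← Functor.map_comp, cokernel.condition, Functor.map_zero]
    rfl)
  have hdimg : (DimLib.ptDim (X ↘ Spec (CommRingCat.of k)) (genericPoint X) : WithBot ℕ∞) = d := by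
    rw [← hd, ← DimLib.topologicalKrullDim_eq_ptDim_of_isGenericPoint (X ↘ Spec (CommRingCat.of k)) (genericPoint_spec X),
      (Homeomorph.Set.univ X).isHomeomorph.topologicalKrullDim_eq]
  have hsm : ∀ Q : X.Modules, genericPoint X ∉ CohB1.support Q → ∀ y ∈ CohB1.support Q,
      DimLib.ptDim (X ↘ Spec (CommRingCat.of k)) y < d := fun Q hQ y hy => by
    have h := DimLib.ptDim_lt_of_specializes (X ↘ Spec (CommRingCat.of k)) (genericPoint_specializes y)
      (fun h => hQ (h.symm ▸ hy))
    have : DimLib.ptDim (X ↘ Spec (CommRingCat.of k)) (genericPoint X) = d := by exact_mod_cast hdimg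
    omega
  obtain ⟨a, ha⟩ := exists_bound_small k hproj cK (hsm _ hK) hL i
  obtain ⟨a', ha'⟩ := exists_bound_small k hproj cK (hsm _ hK) hL (i + 1)
  obtain ⟨b, hb⟩ := exists_bound_small k hproj cC (hsm _ hC) hL i
  obtain ⟨b', hb'⟩ := exists_bound_small k hproj cC (hsm _ hC) hL (i - 1)
  let S₁ := ShortComplex.mk (kernel.ι φ) (Abelian.factorThruImage φ)
    (by rw [← cancel_mono (Abelian.image.ι φ), Category.assoc, Abelian.image.fac, kernel.condition, zero_comp])
  have hS₁ : S₁.ShortExact :=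
    { exact := ShortComplex.exact_of_f_is_kernel _
        (isKernelOfComp (f := Abelian.factorThruImage φ) (Abelian.image.ι φ) φ (kernelIsKernel φ) S₁.zero
          (Abelian.image.fac φ))
      mono_f := inferInstanceAs (Mono (kernel.ι φ))
      epi_g := inferInstanceAs (Epi (Abelian.factorThruImage φ)) }
  let S₂ := ShortComplex.mk (Abelian.image.ι φ) (cokernel.π φ) (kernel.condition (cokernel.π φ))
  have hS₂ : S₂.ShortExact :=
    { exact := ShortComplex.exact_of_f_is_kernel _ (kernelIsKernel (cokernel.π φ))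
      mono_f := inferInstanceAs (Mono (kernel.ι (cokernel.π φ)))
      epi_g := inferInstanceAs (Epi (cokernel.π φ)) }
  have cI : Coh.IsCoh (Abelian.image φ) := isCoh_kernel _ hG cC.1
  refine ⟨a + a' + (b + b'), fun m => ?_⟩
  have := ha m
  have := ha' m
  have := hb m
  have := hb' m
  set x := InvCl.mk L hL ^ m
  have h1 := hh_right k hS₁ cK hF cI i x
  have h2 := hh_triangle k hS₂ cI hG cC i x
  have h3 := (hh_triangle k hS₁ cK hF cI i x).1
  dsimp only [S₁, S₂] at h1 h2 h3
  have h5 : (if i = 0 then 0 else hh k (cokernel φ) (i - 1) x) ≤ hh k (cokernel φ) (i - 1) x := by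
    split <;> omega
  simp only [add_mul]
  constructor <;> omega

variable [GeometricallyIntegral (X ↘ Spec (CommRingCat.of k))]

theorem exists_h0_pullback_sub_le {Y : Scheme.{u}} [Y.Over (Spec (CommRingCat.of k))] [IsIntegral Y]
    [IsProper (Y ↘ Spec (CommRingCat.of k))] (hXproj : ∃ A : X.Modules, CohB1.IsAmple A)
    (hYproj : ∃ B : Y.Modules, CohB1.IsAmple B) {d : ℕ} (hd : topologicalKrullDim X = d) (f : Y ⟶ X) [IsProper f]
    (hf : f ≫ (X ↘ Spec (CommRingCat.of k)) = Y ↘ Spec (CommRingCat.of k))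
    (hdom : f (genericPoint Y) = genericPoint X) (hn : f.residueDegree (genericPoint Y) ≠ 0)
    {L : X.Modules} (hL : PicF.IsInvertible L) :
    ∃ C : ℕ, ∀ m : ℕ,
      hh k (Coh.structureModule Y) 0 (pullHom f (InvCl.mk L hL) ^ m) ≤
          f.residueDegree (genericPoint Y) * hh k (Coh.structureModule X) 0 (InvCl.mk L hL ^ m) + C * bnd d m ∧
        f.residueDegree (genericPoint Y) * hh k (Coh.structureModule X) 0 (InvCl.mk L hL ^ m) ≤
          hh k (Coh.structureModule Y) 0 (pullHom f (InvCl.mk L hL) ^ m) + C * bnd d m := by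
  haveI := isNoetherian_of_proper (X := X) k
  haveI := isNoetherian_of_proper (X := Y) k
  haveI : Y.IsSeparated := isSeparated_of_proper k
  have hdY := dim_eq_of_genFinite k f hf hdom hn hd
  obtain ⟨H, hH⟩ := hYproj
  have ha : ∀ W : X.Opens, IsAffineOpen W → CohB1.IsAmple (H.restrict (f ⁻¹ᵁ W).ι) := fun W hW => by
    haveI : CompactSpace (f ⁻¹ᵁ W : Scheme.{u}) := isCompact_iff_compactSpace.1 (f.isCompact_preimage hW.isCompact)
    exact isAmple_of_iso (restrictIsoPullback _ H).symm
      (isAmple_pullback_of_isEmbedding _ (f ⁻¹ᵁ W).ι.isOpenEmbedding.isEmbedding hH)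
  obtain ⟨n₀, hn₀⟩ := Groth.Agent.S0055.result f H hH.1 ha _ (isCoh_structureModule Y)
  obtain ⟨n₁, -, hn₁⟩ := eventually_ample_and_generated hH (isInvertible_structureModule (X := Y))
  set M := CohB1.tensorMod (CohB1.tensorPow H (n₀ + n₁)) (Coh.structureModule Y)
  have hMi : PicF.IsInvertible M := isInvertible_tensorMod (isInvertible_tensorPow hH.1 _) isInvertible_structureModule
  have hM : Coh.IsCoh M := PicLib.isCoh_of_isInvertible hMi
  have hz : ∀ p : ℕ, 0 < p → IsZero ((Coh.RpushAb f p).obj (Coh.toAb M)) := fun p hp =>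
    (hn₀ _ (Nat.le_add_right _ _) p hp).of_iso ((Coh.RpushAb f p).mapIso ((toAbFunctor Y).mapIso (AmpleLib.tensorComm _ _)))
  obtain ⟨s, hs⟩ := effCl_of_gg hMi (hn₁ _ (Nat.le_add_left _ _)).2
  obtain ⟨eM⟩ := nonempty_iso_repCl M hMi
  let t : Γ(M, (⊤ : Y.Opens)) := eM.hom.app ⊤ s
  have ht : t ≠ 0 := fun h => hs (Coherent.app_injective_of_mono eM.hom ⊤ (h.trans (map_zero _).symm))
  let φ : Coh.structureModule Y ⟶ M := Coherent.unitDesc M t
  haveI := CurveRR24.mono_unitDesc hMi ht
  have hbij : Function.Bijective ((DerSch.stalkFunctor Y (genericPoint Y)).map φ) := by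
    refine ⟨(ModuleCat.mono_iff_injective _).1 inferInstance, fun v => ?_⟩
    have hnot : genericPoint Y ∉ CohB1.support (cokernel φ) := fun h =>
      (CurveRR24.support_cokernel_unitDesc t h) (CurveRR24.genericPoint_mem_glocus hMi ht)
    have hsub : Subsingleton ((DerSch.stalkFunctor Y (genericPoint Y)).obj (cokernel φ)) := not_not.1 hnot
    obtain ⟨w, hw⟩ := ((ShortComplex.ShortExact.moduleCat_exact_iff_function_exact _).1
      ((ShortComplex.exact_cokernel φ).map (DerSch.stalkFunctor Y (genericPoint Y))) v).1 (@Subsingleton.elim _ hsub _ _)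
    exact ⟨w, hw⟩
  obtain ⟨C₁, hC₁⟩ := exists_hh_sub_le k ⟨H, hH⟩ hdY (isCoh_structureModule Y) hM φ hbij
    (PicLoc.isInvertible_pullback f hL) 0
  obtain ⟨G, hG, ⟨e⟩, hhG⟩ := exists_sum_copies (X := X) k (f.residueDegree (genericPoint Y))
  have hP := isCoh_push_proper f hM
  have hfld : IsField (X.presheaf.stalk (genericPoint X)) := Field.toIsField X.functionField
  letI : Field (X.presheaf.stalk (genericPoint X)) := hfld.toField
  haveI : Module.Finite (X.presheaf.stalk (genericPoint X))
      ((DerSch.stalkFunctor X (genericPoint X)).obj ((Coh.push f).obj M)) := AssSch12.finite_stalk hP _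
  haveI : Module.Finite (X.presheaf.stalk (genericPoint X)) ((DerSch.stalkFunctor X (genericPoint X)).obj G) :=
    Module.Finite.equiv e.symm
  have eFG : (DerSch.stalkFunctor X (genericPoint X)).obj ((Coh.push f).obj M) ≃ₗ[X.presheaf.stalk (genericPoint X)]
      (DerSch.stalkFunctor X (genericPoint X)).obj G :=
    LinearEquiv.ofFinrankEq _ _ ((finrank_push_stalk k f hf hdom hn hMi).trans
      ((e.finrank_eq.trans (Module.finrank_fin_fun _)).symm))
  have hk : Killed (genericPoint X) 1 G := fun a ha b => by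
    rw [pow_one, IsLocalRing.isField_iff_maximalIdeal_eq.1 hfld, Ideal.mem_bot] at ha
    subst ha
    exact zero_smul _ b
  obtain ⟨E, a, b, hE, ha', hb'⟩ := exists_roof hP hG eFG.toModuleIso hk
  obtain ⟨C₂, hC₂⟩ := exists_hh_sub_le k hXproj hd hE hP a ha' hL 0
  obtain ⟨C₃, hC₃⟩ := exists_hh_sub_le k hXproj hd hE hG b hb' hL 0
  refine ⟨C₁ + (C₂ + C₃), fun m => ?_⟩
  have h1 := hC₁ m
  have h2 := hC₂ m
  have h3 := hC₃ m
  rw [← map_pow]
  rw [← pullHom_mk f hL, ← map_pow, hh_pullback_eq_push k f hf hM hz] at h1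
  rw [hhG] at h3
  simp only [add_mul]
  constructor <;> omega

open Asymptotics in
theorem isBigO_of_sub_le {f g : ℕ → ℕ} {C d : ℕ} (h : ∀ m, f m ≤ g m + C * bnd d m ∧ g m ≤ f m + C * bnd d m) :
    (fun m : ℕ => (f m : ℝ) - g m) =O[atTop] (fun m : ℕ => (m : ℝ) ^ (d - 1)) := by
  refine IsBigO.of_bound ((C : ℝ) * 2 ^ (d - 1)) (eventually_atTop.2 ⟨1, fun m hm => ?_⟩)
  have hb : (bnd d m : ℝ) ≤ 2 ^ (d - 1) * (m : ℝ) ^ (d - 1) := by
    rcases d with _ | d
    · exact le_trans (le_of_eq Nat.cast_zero) (by positivity)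
    · rw [← mul_pow]
      show (((1 + m) ^ d : ℕ) : ℝ) ≤ _
      push_cast
      exact pow_le_pow_left₀ (by positivity) (by have : (1 : ℝ) ≤ m := by exact_mod_cast hm
                                                 linarith) d
  obtain ⟨h1, h2⟩ := h m
  have h1' : (f m : ℝ) ≤ g m + C * bnd d m := by exact_mod_cast h1
  have h2' : (g m : ℝ) ≤ f m + C * bnd d m := by exact_mod_cast h2
  rw [Real.norm_eq_abs, Real.norm_eq_abs, abs_of_nonneg (by positivity : (0 : ℝ) ≤ (m : ℝ) ^ (d - 1)), mul_assoc]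
  exact (abs_le.2 ⟨by linarith, by linarith⟩).trans (mul_le_mul_of_nonneg_left hb (Nat.cast_nonneg _))

end Groth.Agent.NumTriv23

end
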