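import Groth.Agent.NumTriv23.Uniform
import Groth.Agent.CAlgH3.PSheafGen
import Groth.Agent.Mumford23.Closed
import Groth.Agent.PnEmb.SegreOver

/-!
# Global generation and very ampleness uniformly in the numerically trivial twist
-/

set_option autoImplicit false
set_option linter.style.haveILetI false
set_option linter.unusedSectionVars false
set_option backward.isDefEq.respectTransparency.types false

universe u

open CategoryTheory CategoryTheory.Limits AlgebraicGeometry TopologicalSpace Opposite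
open Groth.Agent.Coherent Groth.Agent.AmpleLib Groth.Agent.EulerLib
open Groth.Agent.H0Growth23
open Groth.Agent.CAlgH3 Groth.Agent.CAlgH3.ModCohSeq Groth.Agent.CAlgH3.PSheaf Groth.Agent.CAlgH3.PSheafSeq Groth.Agent.CAlgH3.PSheafBound Groth.Agent.CAlgH3.PSheafGen

noncomputable section

namespace Groth.Agent.NumTriv23

variable {X : Scheme.{u}} (k : Type u) [Field k] [X.Over (Spec (CommRingCat.of k))]
  [IsProper (X ↘ Spec (CommRingCat.of k))] [Infinite k]

/-- Uniform global generation. -/
theorem exists_gg_num {r : ℕ} (ι : X ⟶ CohB1.ProjSpace r k) [IsClosedImmersion ι]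
    (hι : ι ≫ CohB1.ProjSpace.toSpec r k = X ↘ Spec (CommRingCat.of k)) :
    ∃ m : ℕ, ∀ c, IsNum k c → Curv2.IsGloballyGenerated (repCl (c * hyp k ι ^ m)) := by
  haveI := isNoetherian_of_proper (X := X) k
  haveI : IsLocallyNoetherian (CohB1.ProjSpace r k) :=
    LocallyOfFiniteType.isLocallyNoetherian (CohB1.ProjSpace.toSpec r k)
  have hO := Coherent.isCoh_structureModule X
  obtain ⟨d, hd⟩ := EulerLib.exists_dim_le k (CohB1.support (Coh.structureModule X))
  obtain ⟨m₀, hm₀⟩ := (chi_and_vanish k ι hι (d + 1) _ hO (hd.trans_lt (by exact_mod_cast Nat.lt_succ_self d))).2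
  refine ⟨m₀ + r, fun c hc => ?_⟩
  set F := (Coh.push ι).obj (twCl (Coh.structureModule X) c)
  have hF : Coh.IsCoh F := isCoh_push_finite ι (isCoh_twCl k hO c)
  have hreg : Curv2.IsMRegular k r F ((m₀ + r : ℕ) : ℤ) := fun i hi hir => by
    rw [show ((m₀ + r : ℕ) : ℤ) - (i : ℤ) = ((m₀ + r - i : ℕ) : ℤ) by omega]
    refine Mumford23.subsingleton_of_finrank_eq_zero k (EulerLib.isCoh_twist (isInvertible_twistProj _) hF) i ?_
    rw [← hh_eq_push k ι hι hO c (m₀ + r - i) i]
    exact hm₀ _ (by omega) c hc i hi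
  obtain ⟨e⟩ := nonempty_push_hyp k ι (Coh.structureModule X) c (m₀ + r)
  have hgg := globallyGenerated_of_iso e.symm
    (CAlgH3.PSheafGen.isGloballyGenerated hF.1 hreg (EulerLib.isCoh_twist (isInvertible_twistProj _) hF))
  exact globallyGenerated_of_iso (unitTensorIso _) (Mumford23.isGloballyGenerated_of_push ι hgg)

include k in
/-- Finitely many sections of a globally generated invertible module generate it. -/
theorem exists_fin_sections {N : X.Modules} (hN : PicF.IsInvertible N) (hgg : Curv2.IsGloballyGenerated N) :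
    ∃ (l : ℕ) (s : Fin l → Γ(N, (⊤ : X.Opens))), ∀ x : X, ∃ j, x ∈ glocus N (s j) := by
  haveI := isNoetherian_of_proper (X := X) k
  choose b hb using fun x => exists_mem_glocus_of_gg hN hgg x
  obtain ⟨t, ht⟩ := (CompactSpace.isCompact_univ (X := X)).elim_finite_subcover
    (fun x => (glocus N (b x) : Set X)) (fun x => (glocus N (b x)).2)
    (fun x _ => Set.mem_iUnion.2 ⟨x, hb x⟩)
  refine ⟨t.card, fun j => b (t.equivFin.symm j), fun y => ?_⟩
  obtain ⟨x, hx, hy⟩ := Set.mem_iUnion₂.1 (ht (Set.mem_univ y))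
  exact ⟨t.equivFin ⟨x, hx⟩, by simpa using hy⟩

/-- A very ample module which stays very ample after every numerically trivial twist. -/
theorem exists_veryAmple_num (hproj : ∃ A : X.Modules, CohB1.IsAmple A) :
    ∃ A : X.Modules, PicF.IsInvertible A ∧
      RelAmple.IsRelVeryAmplePn (X ↘ Spec (CommRingCat.of k)) A ∧
      ∀ N : X.Modules, ∀ hN : PicF.IsInvertible N, IsNum k (InvCl.mk N hN) →
        RelAmple.IsRelVeryAmplePn (X ↘ Spec (CommRingCat.of k)) (CohB1.tensorMod A N) := by
  haveI := isNoetherian_of_proper (X := X) k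
  obtain ⟨A, hA⟩ := hproj
  obtain ⟨n₀, hn₀⟩ := PnEmb.eventually_isRelVeryAmplePn (X ↘ Spec (CommRingCat.of k)) hA
    (isInvertible_structureModule (X := X))
  have hV : PicF.IsInvertible (CohB1.tensorMod (CohB1.tensorPow A n₀) (Coh.structureModule X)) :=
    isInvertible_tensorMod (isInvertible_tensorPow hA.1 n₀) isInvertible_structureModule
  set V := CohB1.tensorMod (CohB1.tensorPow A n₀) (Coh.structureModule X)
  obtain ⟨e, r, ι, -, hι, hιq, -⟩ := exists_embedding_pow k hA
  haveI := hι
  obtain ⟨m, hm⟩ := exists_gg_num k ι hιq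
  have key : ∀ x : InvCl X, IsNum k x →
      RelAmple.IsRelVeryAmplePn (X ↘ Spec (CommRingCat.of k)) (CohB1.tensorMod V (repCl (x * hyp k ι ^ m))) :=
    fun x hx => by
      obtain ⟨l, s, hs⟩ := exists_fin_sections k (isInvertible_repCl _) (hm x hx)
      exact PnEmb.isRelVeryAmplePn_tensor _ (hn₀ n₀ le_rfl) (isInvertible_repCl _) s hs
  refine ⟨_, isInvertible_tensorMod hV (isInvertible_repCl (1 * hyp k ι ^ m)), key 1 (isNum_one k),
    fun N hN hnum => ?_⟩
  have hB := isInvertible_tensorMod hV (isInvertible_repCl (1 * hyp k ι ^ m))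
  have h1 : InvCl.mk _ (isInvertible_tensorMod hV (isInvertible_repCl (InvCl.mk N hN * hyp k ι ^ m))) =
      InvCl.mk _ (isInvertible_tensorMod hB hN) := by
    rw [← InvCl.mk_mul hV (isInvertible_repCl _), ← InvCl.mk_mul hB hN, ← InvCl.mk_mul hV (isInvertible_repCl _),
      mk_repCl, mk_repCl, one_mul]
    ac_rfl
  obtain ⟨e'⟩ := nonempty_iso_of_mk_eq h1
  exact PnEmb.isRelVeryAmplePn_of_iso e' (key _ hnum)

end Groth.Agent.NumTriv23

end
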