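import Groth.Agent.H0Growth23.Pullback
import Groth.Agent.EulerLib.NumEquivPull
import Groth.Agent.EulerLib.Positive
import Groth.Agent.Mumford23.Section
import Groth.Agent.Coherent.DevissageIdeal

/-!
# Numerically trivial classes: degrees and bounded global sections
-/

set_option autoImplicit false
set_option linter.style.haveILetI false
set_option linter.unusedSectionVars false
set_option backward.isDefEq.respectTransparency.types false

universe u

open CategoryTheory CategoryTheory.Limits AlgebraicGeometry TopologicalSpace Opposite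
open Groth.Agent.Coherent Groth.Agent.PicLib Groth.Agent.AmpleLib Groth.Agent.EulerLib
open Groth.Agent.H0Growth23
open Groth.Agent.AssSch12 (clM clI)

noncomputable section

namespace Groth.Agent.NumTriv23

local notation "St" => DerSch.stalkFunctor _

variable {X : Scheme.{u}} (k : Type u) [Field k] [X.Over (Spec (CommRingCat.of k))]
  [IsProper (X ↘ Spec (CommRingCat.of k))]

/-- A numerically trivial class. -/
abbrev IsNum (c : InvCl X) : Prop := SameDeg k c 1

theorem chi_curve_mul (a b : InvCl X) {y : X} (hy : topologicalKrullDim (closure {y} : Set X) = 1) :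
    chiCl k (clM y) (a * b) - chiCl k (clM y) b - chiCl k (clM y) a + chiCl k (clM y) 1 = 0 := by
  haveI := isNoetherian_of_proper (X := X) k
  have h2 : topologicalKrullDim (CohB1.support (clM y)) < ((2 : ℕ) : WithBot ℕ∞) := by
    rw [EulerLib.support_clM, hy]
    exact_mod_cast Nat.one_lt_two
  have h := interDeg_eq_zero (Fin.cons a (Fin.cons b (fun i : Fin 0 => i.elim0)))
    (finDeg_chiCl k (isCoh_clM y) h2)
  rw [interDeg_cons, interDeg_cons, interDeg_zero] at h
  simp only [mul_one] at h
  omega

theorem isNum_one : IsNum k (1 : InvCl X) := fun _ _ => rfl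

theorem IsNum.mul {a b : InvCl X} (ha : IsNum k a) (hb : IsNum k b) : IsNum k (a * b) := fun y hy => by
  have h := chi_curve_mul k a b hy
  rw [ha y hy, hb y hy] at h
  omega

theorem IsNum.pow {a : InvCl X} (ha : IsNum k a) : ∀ n : ℕ, IsNum k (a ^ n)
  | 0 => by rw [pow_zero]; exact isNum_one k
  | n + 1 => by rw [pow_succ]; exact IsNum.mul k (IsNum.pow ha n) ha

theorem IsNum.of_mul_eq_one {a b : InvCl X} (ha : IsNum k a) (h : a * b = 1) : IsNum k b := fun y hy => by
  have h' := chi_curve_mul k a b hy
  rw [h, ha y hy] at h'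
  omega

theorem isNum_of_isNumEquivZero {P : X.Modules} (hP : PicF.IsInvertible P) (h : Pic13.IsNumEquivZero k X P) :
    IsNum k (InvCl.mk P hP) := by
  refine sameDeg_of_curveDeg k hP isInvertible_structureModule fun C j _ hC hdC => ?_
  rw [h C j hC hdC]
  letI : C.Over (Spec (CommRingCat.of k)) := ⟨j ≫ (X ↘ Spec (CommRingCat.of k))⟩
  symm
  rw [show j ≫ (X ↘ Spec (CommRingCat.of k)) = C ↘ Spec (CommRingCat.of k) from rfl,
    curveDeg_congr k (PicLoc.pullbackStructureIso j)]
  exact sub_self _

theorem isNum_pull {Z : Scheme.{u}} [Z.Over (Spec (CommRingCat.of k))] [IsProper (Z ↘ Spec (CommRingCat.of k))]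
    (i : Z ⟶ X) [IsClosedImmersion i] (hi : i ≫ (X ↘ Spec (CommRingCat.of k)) = Z ↘ Spec (CommRingCat.of k))
    {L : X.Modules} (hL : PicF.IsInvertible L) (h : IsNum k (InvCl.mk L hL)) :
    IsNum k (InvCl.mk _ (PicLoc.isInvertible_pullback i hL)) := by
  refine sameDeg_of_curveDeg k (PicLoc.isInvertible_pullback i hL) isInvertible_structureModule
    fun C j _ hC hdC => ?_
  letI : C.Over (Spec (CommRingCat.of k)) := ⟨j ≫ (Z ↘ Spec (CommRingCat.of k))⟩
  haveI : IsProper (C ↘ Spec (CommRingCat.of k)) :=
    inferInstanceAs (IsProper (j ≫ (Z ↘ Spec (CommRingCat.of k))))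
  have hji : (j ≫ i) ≫ (X ↘ Spec (CommRingCat.of k)) = C ↘ Spec (CommRingCat.of k) := by
    rw [Category.assoc, hi]; rfl
  have h2 := curveDeg_pullback_congr k (j ≫ i) hji hdC.le hL isInvertible_structureModule h
  rw [show j ≫ (Z ↘ Spec (CommRingCat.of k)) = C ↘ Spec (CommRingCat.of k) from rfl]
  rw [curveDeg_congr k (show (Scheme.Modules.pullback j).obj ((Scheme.Modules.pullback i).obj L) ≅ _ from (Scheme.Modules.pullbackComp j i).app L), curveDeg_congr k (PicLoc.pullbackStructureIso j),
    ← curveDeg_congr k (PicLoc.pullbackStructureIso (j ≫ i))]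
  exact h2

/-- On an integral scheme of positive dimension the negative of an ample module, perturbed by a numerically
trivial class, has no sections. -/
theorem section_eq_zero_of_neg [IsIntegral X] {d : ℕ} (hd : topologicalKrullDim X = ((d + 1 : ℕ) : WithBot ℕ∞))
    {A : X.Modules} (hA : CohB1.IsAmple A) {R : X.Modules} (hR : PicF.IsInvertible R)
    (hnum : IsNum k (InvCl.mk R hR * InvCl.mk A hA.1)) (s : Γ(R, (⊤ : X.Opens))) : s = 0 := by
  by_contra hs
  haveI := isNoetherian_of_proper (X := X) k
  set η := genericPoint X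
  have hη : η ∈ glocus R s := CurveRR24.genericPoint_mem_glocus hR hs
  have hcl : closure ({η} : Set X) = Set.univ := genericPoint_closure X
  have hG := isCoh_clM η
  have hGR := isCoh_twist hR hG
  let u := mulSec (clM η) s
  have hK : η ∉ CohB1.support (kernel u) := fun h => (support_kernel_mulSec (clM η) s h).2 hη
  haveI : Mono u := Preadditive.mono_of_isZero_kernel u
    (isZero_of_mono_clM (kernel.ι u) (isCoh_kernel u hG hGR.1) hK)
  let Q := cokernel u
  have hQ : Coh.IsCoh Q := isCoh_cokernel u hG.1 hGR
  have hd' : topologicalKrullDim (Set.univ : Set X) ≤ ((d + 1 : ℕ) : WithBot ℕ∞) :=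
    (Homeomorph.Set.univ X).isHomeomorph.topologicalKrullDim_eq.le.trans hd.le
  have hQd : topologicalKrullDim (CohB1.support Q) ≤ (d : WithBot ℕ∞) := le_of_lt_natCast_succ
    ((dim_mono ((support_cokernel_mulSec hR (clM η) s).trans Set.inter_subset_right)).trans_lt
      (dim_lt_of_notMem (glocus R s).2.isClosed_compl (Set.subset_univ _) isClosed_univ hcl (fun h => h hη) hd'))
  let c : Fin d → InvCl X := fun _ => InvCl.mk A hA.1
  let f := chiCl k (clM η)
  have hsupp : CohB1.support (clM η) = Set.univ := (EulerLib.support_clM η).trans hcl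
  have hGd : topologicalKrullDim (CohB1.support (clM η)) = ((d + 1 : ℕ) : WithBot ℕ∞) := by
    rw [hsupp, (Homeomorph.Set.univ X).isHomeomorph.topologicalKrullDim_eq, hd]
  have hnn : 0 ≤ interDeg (Fin.cons (InvCl.mk R hR) c) f := by
    have hS : (ShortComplex.mk u (cokernel.π u) (cokernel.condition u)).ShortExact :=
      { exact := ShortComplex.exact_cokernel u }
    have hadd := chiCl_additive k _ hS hG hGR hQ
    rw [interDeg_cons, show (fun x => f (InvCl.mk R hR * x) - f x) = chiCl k Q from funext fun x => by
      simp only [f, Q]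
      rw [chiCl_mul k (clM η) hR x]
      have := congrFun hadd x
      simp only [Pi.add_apply] at this
      omega]
    rcases hQd.lt_or_eq with hlt | heq
    · exact (interDeg_eq_zero c (finDeg_chiCl k hQ hlt)).ge
    · exact (interDeg_pos k d (fun _ => A) (fun _ => hA) Q hQ heq).le
  obtain ⟨a', ha'⟩ := exists_inv hA.1
  have hsame : SameDeg k (InvCl.mk R hR) a' := fun y hy => by
    have h1 := chi_curve_mul k (InvCl.mk R hR) (InvCl.mk A hA.1) hy
    have h2 := chi_curve_mul k (InvCl.mk A hA.1) a' hy
    rw [hnum y hy] at h1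
    rw [ha'] at h2
    omega
  have hcongr : interDeg (Fin.cons (InvCl.mk R hR) c) f = interDeg (Fin.cons a' c) f :=
    interDeg_cons_congr k hsame d _ hG hGd.le c
  have hlin : interDeg (Fin.cons (InvCl.mk A hA.1 * a') c) f =
      interDeg (Fin.cons (InvCl.mk A hA.1) c) f + interDeg (Fin.cons a' c) f :=
    interDeg_mul (InvCl.mk A hA.1) a' c (clDeg_chiCl k hG hGd.le)
  have h1 : interDeg (Fin.cons (1 : InvCl X) c) f = 0 := by
    rw [interDeg_cons, show (fun x => f (1 * x) - f x) = f - f from funext fun x => by rw [one_mul]; rfl,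
      interDeg_sub, sub_self]
  have hpos : 0 < interDeg (Fin.cons (InvCl.mk A hA.1) c) f := by
    have h := interDeg_pos k (d + 1) (fun _ => A) (fun _ => hA) _ hG hGd
    rwa [show (fun _ : Fin (d + 1) => InvCl.mk A hA.1) = Fin.cons (InvCl.mk A hA.1) c from
      funext fun i => by induction i using Fin.cases <;> rfl] at h
  rw [ha'] at hlin
  omega

theorem exists_mem_glocus_of_gg {N : X.Modules} (hN : PicF.IsInvertible N) (hgg : Curv2.IsGloballyGenerated N)
    (x : X) : ∃ b : Γ(N, (⊤ : X.Opens)), x ∈ glocus N b := by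
  by_contra hne
  push Not at hne
  have hspan := SerreDual.span_germ_top_eq_top hgg x
  have hle : (⊤ : Submodule (X.presheaf.stalk x) (N.presheaf.stalk x)) ≤
      IsLocalRing.maximalIdeal (X.presheaf.stalk x) • ⊤ := hspan.ge.trans (Submodule.span_le.2 (by
    rintro _ ⟨s, rfl⟩
    by_contra hs
    exact hne s ((CurveRR24.mem_glocus_iff_germ hN s x).2 hs)))
  obtain ⟨U, hxU, g, hg⟩ := exists_isGen hN x
  have h3 := (EmbLib24.mem_smul_top_iff _ (EmbLib24.bijective_smul_germ hg hxU) _
    (1 : X.presheaf.stalk x)).1 (hle Submodule.mem_top)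
  exact (IsLocalRing.maximalIdeal.isMaximal _).ne_top ((Ideal.eq_top_iff_one _).2 h3)

theorem finrank_HH_zero_of_sections {M : X.Modules} (h : ∀ s : Γ(M, (⊤ : X.Opens)), s = 0) :
    Module.finrank k (Coh.HH X M 0) = 0 := by
  haveI : Subsingleton ((Coh.toAb M).obj.obj (op (⊤ : X.Opens))) := subsingleton_of_forall_eq (0 : Γ(M, (⊤ : X.Opens))) h
  haveI : Subsingleton (Coh.HH X M 0) :=
    ((HHTopEquiv M 0).trans (secH (X := X.toTopCat) (Coh.toAb M) (⊤ : X.Opens))).toEquiv.subsingleton
  exact Module.finrank_zero_of_subsingleton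

/-- The space of sections of a coherent module is bounded under numerically trivial twists. -/
theorem exists_h0_bound_num (hproj : ∃ A : X.Modules, CohB1.IsAmple A) {G : X.Modules} (hG : Coh.IsCoh G) :
    ∃ B : ℕ, ∀ c : InvCl X, IsNum k c → hh k G 0 c ≤ B := by
  haveI := isNoetherian_of_proper (X := X) k
  haveI := isSeparated_of_proper (X := X) k
  let p := X ↘ Spec (CommRingCat.of k)
  obtain ⟨A, hA⟩ := hproj
  obtain ⟨N, -, hN⟩ := eventually_ample_and_generated hA (isInvertible_structureModule (X := X))
  set P := CohB1.tensorMod (CohB1.tensorPow A N) (Coh.structureModule X)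
  obtain ⟨hPa, hPgg⟩ := hN N le_rfl
  obtain ⟨b', hb'⟩ := exists_inv hPa.1
  suffices key : ∀ d : ℕ, ∀ G : X.Modules, Coh.IsCoh G →
      topologicalKrullDim (CohB1.support G) < (d : WithBot ℕ∞) → ∃ B : ℕ, ∀ c, IsNum k c → hh k G 0 c ≤ B by
    obtain ⟨n, hn⟩ : ∃ n : ℕ, topologicalKrullDim (CohB1.support G) < (n : WithBot ℕ∞) := by
      obtain ⟨n, hn⟩ := EulerLib.exists_dim_le k (CohB1.support G)
      exact ⟨n + 1, hn.trans_lt (by exact_mod_cast Nat.lt_succ_self n)⟩
    exact key n G hG hn
  intro d
  induction d with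
  | zero =>
    intro G _ hdim
    refine ⟨0, fun c _ => ?_⟩
    have h0 : CohB1.support G = ∅ := Set.eq_empty_of_forall_notMem fun y hy => by
      haveI : Nonempty (IrreducibleCloseds (CohB1.support G)) :=
        ⟨⟨closure {(⟨y, hy⟩ : CohB1.support G)}, isIrreducible_singleton.closure, isClosed_closure⟩⟩
      exact not_lt.2 (Order.krullDim_nonneg (α := IrreducibleCloseds (CohB1.support G))) (by exact_mod_cast hdim)
    haveI : Subsingleton (Coh.HH X (twCl G c) 0) := subsingleton_HH_of_isZero
      (isZero_of_support_eq_empty ((support_twist (isInvertible_repCl _) G).trans h0)) 0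
    exact le_of_eq_of_le Module.finrank_zero_of_subsingleton le_rfl
  | succ d ih =>
    intro G hG hdim
    let K : X.Modules → Prop := fun M =>
      topologicalKrullDim (CohB1.support M) < ((d + 1 : ℕ) : WithBot ℕ∞) → ∃ B : ℕ, ∀ c, IsNum k c → hh k M 0 c ≤ B
    have hK : ExtClass K :=
      { iso := fun {M M'} e h hd => by
          rw [support_eq_of_iso e.symm] at hd
          obtain ⟨B, hB⟩ := h hd
          exact ⟨B, fun c hc => le_of_eq_of_le
            (CurveRR24.finrank_HH_congr k (Coherent.tensorIso e.symm (Iso.refl _)) 0) (hB c hc)⟩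
        zero := fun M hM _ => ⟨0, fun c _ => by
          haveI : Subsingleton (Coh.HH X (twCl M c) 0) := subsingleton_HH_of_isZero
            (isZero_of_support_eq_empty ((support_twist (isInvertible_repCl _) M).trans
              (Set.subset_empty_iff.1 (support_of_isZero hM ∅)))) 0
          exact le_of_eq_of_le Module.finrank_zero_of_subsingleton le_rfl⟩
        ext := fun S hS h₁ h₂ h₃ a b hd => by
          haveI := hS.mono_f
          haveI := hS.epi_g
          obtain ⟨B₁, hB₁⟩ := a ((dim_mono (support_subset_of_mono S.f)).trans_lt hd)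
          obtain ⟨B₃, hB₃⟩ := b ((dim_mono (support_subset_of_epi S.g)).trans_lt hd)
          exact ⟨B₁ + B₃, fun c hc => ((hh_triangle k hS h₁ h₂ h₃ 0 c).1).trans
            (add_le_add (hB₁ c hc) (hB₃ c hc))⟩ }
    refine mem_of_ideals hK Set.univ (fun y _ I ι hι hI hI0 => ?_) G hG (Set.subset_univ _) hdim
    intro hdM
    haveI := hι
    haveI := hI
    let i := (clI y).subschemeι
    haveI : (Coh.push i).IsRightAdjoint := (Scheme.Modules.pullbackPushforwardAdjunction i).isRightAdjoint
    let j : (Coh.push i).obj I ⟶ clM y := (Coh.push i).map ι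
    haveI : Mono j := inferInstanceAs (Mono ((Coh.push i).map ι))
    haveI : Coh.IsQCoh ((Coh.push i).obj I) := isQCoh_push i I
    have hM : Coh.IsCoh ((Coh.push i).obj I) := isCoh_of_mono j (isCoh_clM y) inferInstance
    have hyM : y ∈ CohB1.support ((Coh.push i).obj I) := by
      by_contra hy
      have h0 : (Coh.push i).map (𝟙 I) = (Coh.push i).map 0 := (isZero_of_mono_clM j hM hy).eq_of_src _ _
      exact hI0 ((IsZero.iff_id_eq_zero I).2 ((Coh.push i).map_injective h0))
    have hdy : topologicalKrullDim (closure {y} : Set X) < ((d + 1 : ℕ) : WithBot ℕ∞) :=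
      (dim_mono (closure_subset_support hM hyM)).trans_lt hdM
    suffices hB : ∃ B : ℕ, ∀ c, IsNum k c → hh k (clM y) 0 c ≤ B by
      obtain ⟨B, hB⟩ := hB
      refine ⟨B, fun c hc => le_trans ?_ (hB c hc)⟩
      have h := (hh_triangle k (S := ShortComplex.mk j (cokernel.π j) (cokernel.condition j))
        { exact := ShortComplex.exact_cokernel j } hM (isCoh_clM y)
        (isCoh_cokernel j hM.1 (isCoh_clM y)) 0 c).2
      simpa using h
    have hG' := isCoh_clM y
    rcases (le_of_lt_natCast_succ hdy).lt_or_eq with hlt | heq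
    · exact ih _ hG' ((dim_mono (support_clM_subset y)).trans_lt hlt)
    rcases d with _ | d
    · -- a point
      have h1 : topologicalKrullDim (CohB1.support (clM y)) < ((1 : ℕ) : WithBot ℕ∞) :=
        (dim_mono (support_clM_subset y)).trans_lt hdy
      refine ⟨(chiCl k (clM y) 1).toNat, fun c _ => ?_⟩
      have h := interDeg_eq_zero (Fin.cons c (fun i : Fin 0 => i.elim0)) (finDeg_chiCl k hG' h1)
      rw [interDeg_cons, interDeg_zero, mul_one] at h
      have hval : chiCl k (clM y) c = (hh k (clM y) 0 c : ℤ) := by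
        conv_lhs => rw [← mk_repCl c]
        rw [chiCl_mk, euler_eq_sum k X _ 0 fun q hq => subsingleton_HH_of_support ⟨_, isClosed_closure⟩ _
          (isCoh_twCl k hG' c).1 ((support_twist (isInvertible_repCl _) _).le.trans (support_clM_subset y)) q
          (heq.trans_lt (by exact_mod_cast hq))]
        simp [hh]
      omega
    · -- positive dimension
      obtain ⟨b, hyb⟩ := exists_mem_glocus_of_gg hPa.1 hPgg y
      let u := mulSec (clM y) b
      have hGP := isCoh_twist hPa.1 hG'
      haveI : Mono u := Preadditive.mono_of_isZero_kernel u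
        (isZero_of_mono_clM (kernel.ι u) (isCoh_kernel u hG' hGP.1)
          fun h => (support_kernel_mulSec (clM y) b h).2 hyb)
      let Q := cokernel u
      have hQ : Coh.IsCoh Q := isCoh_cokernel u hG'.1 hGP
      have hQd : topologicalKrullDim (CohB1.support Q) < ((d + 1 : ℕ) : WithBot ℕ∞) :=
        (dim_mono ((support_cokernel_mulSec hPa.1 (clM y) b).trans
            (Set.inter_subset_inter_left _ (support_clM_subset y)))).trans_lt
          (dim_lt_of_notMem (isClosed_closure.inter (glocus P b).2.isClosed_compl) Set.inter_subset_left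
            isClosed_closure rfl (fun h => h.2 hyb) heq.le)
      obtain ⟨B, hB⟩ := ih (twCl Q b') (isCoh_twCl k hQ b') (by
        show topologicalKrullDim (CohB1.support (CohB1.tensorMod Q (repCl b'))) < _
        rwa [support_twist (isInvertible_repCl _)])
      refine ⟨B, fun c hc => ?_⟩
      have hS : (ShortComplex.mk u (cokernel.π u) (cokernel.condition u)).ShortExact :=
        { exact := ShortComplex.exact_cokernel u }
      have h := (hh_triangle k hS hG' hGP hQ 0 (b' * c)).1
      dsimp only at h
      rw [hh_tensor k hPa.1, ← mul_assoc, hb', one_mul] at h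
      have h2 := hB c hc
      rw [hh_tensor k (isInvertible_repCl b'), mk_repCl] at h2
      suffices h0 : hh k (clM y) 0 (b' * c) = 0 by
        simp only [Q] at h2
        omega
      -- the twisted structure module of the subvariety has no sections
      letI : (clI y).subscheme.Over (Spec (CommRingCat.of k)) := ⟨i ≫ p⟩
      haveI : IsProper ((clI y).subscheme ↘ Spec (CommRingCat.of k)) := inferInstanceAs (IsProper (i ≫ p))
      haveI := isNoetherian_of_proper (X := (clI y).subscheme) k
      haveI := isSeparated_of_proper (X := (clI y).subscheme) k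
      set e := b' * c
      let R := repCl e
      have hR : PicF.IsInvertible R := isInvertible_repCl e
      have hRZ := PicLoc.isInvertible_pullback i hR
      have hAZ : CohB1.IsAmple ((Scheme.Modules.pullback i).obj P) := isAmple_pullback_of_isAffineHom i hPa
      have hdZ : topologicalKrullDim (clI y).subscheme = ((d + 1 : ℕ) : WithBot ℕ∞) := by
        rw [i.isClosedEmbedding.isEmbedding.toHomeomorph.isHomeomorph.topologicalKrullDim_eq, ← heq]
        exact congrArg (fun S : Set X => topologicalKrullDim S) (range_clι y)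
      have hnum : IsNum k (InvCl.mk _ hRZ * InvCl.mk _ hAZ.1) := by
        rw [show InvCl.mk _ hRZ * InvCl.mk _ hAZ.1 =
            InvCl.mk _ (PicLoc.isInvertible_pullback i (isInvertible_tensorMod hR hPa.1)) from
          InvCl.mk_eq _ _ (DCat.PullTensor.pullTensorIso i R P).symm]
        refine isNum_pull k i rfl (isInvertible_tensorMod hR hPa.1) ?_
        rw [← InvCl.mk_mul hR hPa.1, mk_repCl]
        rw [show e * InvCl.mk P hPa.1 = c by rw [mul_comm, ← mul_assoc, hb', one_mul]]
        exact hc
      have hsec : Module.finrank k (Coh.HH (clI y).subscheme ((Scheme.Modules.pullback i).obj R) 0) = 0 :=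
        finrank_HH_zero_of_sections k fun s => section_eq_zero_of_neg k hdZ hAZ hRZ hnum s
      haveI : Coh.IsQCoh ((Scheme.Modules.pullback i).obj R) :=
        (isCoh_iso (unitTensorIso _) (isCoh_twist hRZ (isCoh_structureModule _))).1
      have hLF : FlatMod.IsFinLocFree R := fun x =>
        let ⟨U, hx, e'⟩ := isFinLocFreeOfRank_one hR x; ⟨U, 1, hx, e'⟩
      refine Eq.trans ?_ hsec
      rw [(SerreDual.hpush i k rfl ((Scheme.Modules.pullback i).obj R) 0).finrank_eq]
      exact CurveRR24.finrank_HH_congr k (AmpleLib.tensorComm _ _ ≪≫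
        (projIso (f := i) hLF).app (Coh.structureModule _) ≪≫
        (Coh.push i).mapIso (AmpleLib.tensorComm _ _ ≪≫ AmpleLib.unitTensorIso _)) 0

end Groth.Agent.NumTriv23

end
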