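import Groth.Agent.NumTriv23.Chi
import Groth.Agent.AbCubeLib.ProjEmbedding
import Groth.Agent.PnEmb.Ample

/-!
# Uniform bounds under numerically trivial twists on projective schemes
-/

set_option autoImplicit false
set_option linter.style.haveILetI false
set_option linter.unusedSectionVars false
set_option backward.isDefEq.respectTransparency.types false

universe u

open CategoryTheory CategoryTheory.Limits AlgebraicGeometry TopologicalSpace Opposite
open Groth.Agent.Coherent Groth.Agent.PicLib Groth.Agent.AmpleLib Groth.Agent.EulerLib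
open Groth.Agent.H0Growth23

noncomputable section

namespace Groth.Agent.NumTriv23

variable {X : Scheme.{u}} (k : Type u) [Field k] [X.Over (Spec (CommRingCat.of k))]
  [IsProper (X ↘ Spec (CommRingCat.of k))]

/-- Some positive power of an ample class is a hyperplane class. -/
theorem exists_embedding_pow {A : X.Modules} (hA : CohB1.IsAmple A) :
    ∃ (e : ℕ) (r : ℕ) (ι : X ⟶ CohB1.ProjSpace r k), 0 < e ∧ IsClosedImmersion ι ∧
      ι ≫ CohB1.ProjSpace.toSpec r k = X ↘ Spec (CommRingCat.of k) ∧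
      hyp k ι = InvCl.mk A hA.1 ^ e := by
  haveI := isNoetherian_of_proper (X := X) k
  obtain ⟨n₀, hn₀⟩ := PnEmb.eventually_isRelVeryAmplePn (X ↘ Spec (CommRingCat.of k)) hA
    (isInvertible_structureModule (X := X))
  have hN := isInvertible_tensorMod (isInvertible_tensorPow hA.1 (n₀ + 1)) (isInvertible_structureModule (X := X))
  obtain ⟨r, ι, hι, hιq, ⟨e⟩⟩ := AbCubeLib.exists_isClosedImmersion_projSpace (X ↘ Spec (CommRingCat.of k)) hN
    (hn₀ (n₀ + 1) (Nat.le_succ _))
  refine ⟨n₀ + 1, r, ι, Nat.succ_pos _, hι, hιq, ?_⟩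
  rw [← InvCl.mk_tensorPow hA.1]
  exact InvCl.mk_eq _ _ (e ≪≫ AmpleLib.tensorComm _ _ ≪≫ unitTensorIso _)

variable [Infinite k]

/-- **Numerical invariance of the Euler characteristic.** -/
theorem chiCl_eq_of_num (hproj : ∃ A : X.Modules, CohB1.IsAmple A) {G : X.Modules} (hG : Coh.IsCoh G)
    {c : InvCl X} (hc : IsNum k c) : chiCl k G c = chiCl k G 1 := by
  obtain ⟨A, hA⟩ := hproj
  obtain ⟨-, r, ι, -, hι, hιq, -⟩ := exists_embedding_pow k hA
  haveI := hι
  obtain ⟨d, hd⟩ := EulerLib.exists_dim_le k (CohB1.support G)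
  exact (chi_and_vanish k ι hιq (d + 1) G hG (hd.trans_lt (by exact_mod_cast Nat.lt_succ_self d))).1 c hc

/-- Uniform vanishing for high twists by an ample class. -/
theorem exists_uniform_vanish {A : X.Modules} (hA : CohB1.IsAmple A) {G : X.Modules} (hG : Coh.IsCoh G) :
    ∃ m₀ : ℕ, ∀ m, m₀ ≤ m → ∀ c, IsNum k c → ∀ i, 1 ≤ i → hh k G i (c * InvCl.mk A hA.1 ^ m) = 0 := by
  obtain ⟨e, r, ι, he, hι, hιq, hhyp⟩ := exists_embedding_pow k hA
  haveI := hι
  set α := InvCl.mk A hA.1
  obtain ⟨d, hd⟩ := EulerLib.exists_dim_le k (CohB1.support G)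
  choose m₁ hm₁ using fun t : Fin e => (chi_and_vanish k ι hιq (d + 1) (twCl G (α ^ (t : ℕ))) (isCoh_twCl k hG _) (by
    show topologicalKrullDim (CohB1.support (CohB1.tensorMod G (repCl (α ^ (t : ℕ))))) < _
    rw [support_twist (isInvertible_repCl _)]
    exact hd.trans_lt (by exact_mod_cast Nat.lt_succ_self d))).2
  refine ⟨e * (Finset.univ.sup m₁ + 1), fun m hm c hc i hi => ?_⟩
  have hle : m₁ ⟨m % e, Nat.mod_lt _ he⟩ ≤ m / e := le_trans (Finset.le_sup (Finset.mem_univ _))
    ((Nat.le_div_iff_mul_le he).2 (by rw [mul_comm]; exact le_trans (Nat.mul_le_mul_left _ (Nat.le_succ _)) hm))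
  have h := hm₁ ⟨m % e, Nat.mod_lt _ he⟩ (m / e) hle c hc i hi
  rw [hh_twCl, hhyp, ← pow_mul] at h
  have e1 : α ^ m = α ^ (m % e) * α ^ (e * (m / e)) := by rw [← pow_add, Nat.mod_add_div]
  rw [e1, ← h]
  congr 1
  simp only
  ac_rfl

/-- All cohomology groups are bounded under numerically trivial twists. -/
theorem exists_uniform_bound (hproj : ∃ A : X.Modules, CohB1.IsAmple A) {G : X.Modules} (hG : Coh.IsCoh G) (i : ℕ) :
    ∃ B : ℕ, ∀ c, IsNum k c → hh k G i c ≤ B := by
  haveI := isNoetherian_of_proper (X := X) k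
  haveI := isSeparated_of_proper (X := X) k
  obtain ⟨A, hA⟩ := hproj
  obtain ⟨-, r, ι, -, hι, hιq, -⟩ := exists_embedding_pow k hA
  haveI := hι
  have hLi : PicF.IsInvertible (hypMod k ι) :=
    PicLoc.isInvertible_pullback ι (Groth.Agent.CAlgH3.PSheafGen.isInvertible_twistProj 1)
  suffices key : ∀ d : ℕ, ∀ G : X.Modules, Coh.IsCoh G → topologicalKrullDim (CohB1.support G) < (d : WithBot ℕ∞) →
      ∀ i : ℕ, ∃ B : ℕ, ∀ c, IsNum k c → hh k G i c ≤ B by
    obtain ⟨d, hd⟩ := EulerLib.exists_dim_le k (CohB1.support G)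
    exact key (d + 1) G hG (hd.trans_lt (by exact_mod_cast Nat.lt_succ_self d)) i
  intro d
  induction d with
  | zero =>
    intro G _ hdim i
    refine ⟨0, fun c _ => ?_⟩
    have h0 : CohB1.support G = ∅ := Set.eq_empty_of_forall_notMem fun y hy => by
      haveI : Nonempty (IrreducibleCloseds (CohB1.support G)) :=
        ⟨⟨closure {(⟨y, hy⟩ : CohB1.support G)}, isIrreducible_singleton.closure, isClosed_closure⟩⟩
      exact not_lt.2 (Order.krullDim_nonneg (α := IrreducibleCloseds (CohB1.support G))) (by exact_mod_cast hdim)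
    haveI : Subsingleton (Coh.HH X (twCl G c) i) := subsingleton_HH_of_isZero
      (isZero_of_support_eq_empty ((support_twist (isInvertible_repCl _) G).trans h0)) i
    exact le_of_eq_of_le Module.finrank_zero_of_subsingleton le_rfl
  | succ d ih =>
    intro G hG hdim i
    rcases Nat.eq_zero_or_pos i with rfl | hi
    · exact exists_h0_bound_num k ⟨A, hA⟩ hG
    obtain ⟨-, m₀, hm₀⟩ := chi_and_vanish k ι hιq (d + 1) G hG hdim
    obtain ⟨b, hb⟩ := exists_hyp_section k ι (AssSch12.finite_ass G hG)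
    haveI := Mumford23.mono_mulSec hG.1 b hb
    have hGL := isCoh_twist hLi hG
    have hC : Coh.IsCoh (cokernel (mulSec G b)) := isCoh_cokernel _ hG.1 hGL
    have hCd := dim_cokernel_lt k hLi hG b hb hdim
    have hS : (ShortComplex.mk (mulSec G b) (cokernel.π _) (cokernel.condition _)).ShortExact :=
      { exact := ShortComplex.exact_cokernel _ }
    suffices hdown : ∀ n m, m₀ ≤ m + n → ∃ B, ∀ c, IsNum k c → hh k G i (c * hyp k ι ^ m) ≤ B by
      obtain ⟨B, hB⟩ := hdown m₀ 0 (by omega)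
      exact ⟨B, fun c hc => by simpa using hB c hc⟩
    intro n
    induction n with
    | zero => exact fun m hm => ⟨0, fun c hc => (hm₀ m hm c hc i hi).le⟩
    | succ n ihn =>
      intro m hm
      obtain ⟨B₁, hB₁⟩ := ihn (m + 1) (by omega)
      obtain ⟨B₂, hB₂⟩ := ih (twCl (cokernel (mulSec G b)) (hyp k ι ^ m)) (isCoh_twCl k hC _) (by
        show topologicalKrullDim (CohB1.support (CohB1.tensorMod _ (repCl (hyp k ι ^ m)))) < _
        rwa [support_twist (isInvertible_repCl _)]) (i - 1)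
      refine ⟨B₁ + B₂, fun c hc => ?_⟩
      have h1 := (hh_triangle k hS hG hGL hC i (c * hyp k ι ^ m)).2
      dsimp only at h1
      rw [if_neg (by omega), hh_tensor k hLi, mul_left_comm, ← pow_succ'] at h1
      have h2 := hB₂ c hc
      rw [hh_twCl, mul_comm] at h2
      have h3 := hB₁ c hc
      exact h1.trans (add_le_add h3 h2)

/-- A family of coherent modules with uniformly bounded cohomology along numerically trivial twists. -/
structure BddFam (F : X.Modules → Prop) : Prop where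
  coh : ∀ G, F G → Coh.IsCoh G
  bdd : ∀ (e : InvCl X) (i : ℕ), ∃ B : ℕ, ∀ G, F G → ∀ c, IsNum k c → hh k G i (e * c) ≤ B

/-- The cokernels of the multiplications by sections form a bounded family. -/
theorem BddFam.cokernels {F : X.Modules → Prop} (hF : BddFam k F) {P : X.Modules} (hP : PicF.IsInvertible P) :
    BddFam k (fun H => ∃ (G : X.Modules) (b : Γ(P, (⊤ : X.Opens))),
      F G ∧ AssSch.Ass G ⊆ (glocus P b : Set X) ∧ H = cokernel (mulSec G b)) := by
  haveI := isNoetherian_of_proper (X := X) k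
  refine ⟨fun H ⟨G, b, hG, _, hH⟩ => hH ▸ isCoh_cokernel _ (hF.coh G hG).1 (isCoh_twist hP (hF.coh G hG)),
    fun e i => ?_⟩
  obtain ⟨B₁, hB₁⟩ := hF.bdd (InvCl.mk P hP * e) i
  obtain ⟨B₂, hB₂⟩ := hF.bdd e (i + 1)
  refine ⟨B₁ + B₂, ?_⟩
  rintro H ⟨G, b, hG, hb, rfl⟩ c hc
  have hcoh := hF.coh G hG
  haveI := Mumford23.mono_mulSec hcoh.1 b hb
  have hS : (ShortComplex.mk (mulSec G b) (cokernel.π _) (cokernel.condition _)).ShortExact :=
    { exact := ShortComplex.exact_cokernel _ }
  have h := hh_right k hS hcoh (isCoh_twist hP hcoh) (isCoh_cokernel _ hcoh.1 (isCoh_twist hP hcoh)) i (e * c)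
  dsimp only at h
  rw [hh_tensor k hP, ← mul_assoc] at h
  exact h.trans (add_le_add (hB₁ G hG c hc) (hB₂ G hG c hc))

/-- Uniform growth along a class for a bounded family. -/
theorem exists_fam_growth (hproj : ∃ A : X.Modules, CohB1.IsAmple A) (ℓ : InvCl X) :
    ∀ (d : ℕ) (F : X.Modules → Prop), BddFam k F →
      (∀ G, F G → topologicalKrullDim (CohB1.support G) < (d : WithBot ℕ∞)) →
      ∀ i : ℕ, ∃ C : ℕ, ∀ G, F G → ∀ c, IsNum k c → ∀ m : ℕ, hh k G i (c * ℓ ^ m) ≤ C * bnd d m := by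
  haveI := isNoetherian_of_proper (X := X) k
  haveI := isSeparated_of_proper (X := X) k
  obtain ⟨A, hA⟩ := hproj
  obtain ⟨n₁, -, h₁⟩ := eventually_ample_and_generated hA (isInvertible_repCl ℓ)
  obtain ⟨n₂, -, h₂⟩ := eventually_ample_and_generated hA (isInvertible_structureModule (X := X))
  let s := n₁ + n₂
  let P := CohB1.tensorMod (CohB1.tensorPow A s) (repCl ℓ)
  let Q := CohB1.tensorMod (CohB1.tensorPow A s) (Coh.structureModule X)
  have hP : PicF.IsInvertible P := isInvertible_tensorMod (isInvertible_tensorPow hA.1 s) (isInvertible_repCl ℓ)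
  have hQ : PicF.IsInvertible Q := isInvertible_tensorMod (isInvertible_tensorPow hA.1 s) isInvertible_structureModule
  have hPQ : ℓ * InvCl.mk Q hQ = InvCl.mk P hP := by
    rw [← InvCl.mk_mul (isInvertible_tensorPow hA.1 s) (isInvertible_structureModule (X := X)),
      ← InvCl.mk_mul (isInvertible_tensorPow hA.1 s) (isInvertible_repCl ℓ), mk_repCl, ← mul_assoc, mul_comm ℓ]
    exact mul_one _
  intro d
  induction d with
  | zero =>
    intro F hF hdim i
    refine ⟨0, fun G hG c _ m => ?_⟩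
    have h0 : CohB1.support G = ∅ := Set.eq_empty_of_forall_notMem fun y hy => by
      haveI : Nonempty (IrreducibleCloseds (CohB1.support G)) :=
        ⟨⟨closure {(⟨y, hy⟩ : CohB1.support G)}, isIrreducible_singleton.closure, isClosed_closure⟩⟩
      exact not_lt.2 (Order.krullDim_nonneg (α := IrreducibleCloseds (CohB1.support G)))
        (by exact_mod_cast hdim G hG)
    haveI : Subsingleton (Coh.HH X (twCl G (c * ℓ ^ m)) i) := subsingleton_HH_of_isZero
      (isZero_of_support_eq_empty ((support_twist (isInvertible_repCl _) G).trans h0)) i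
    exact le_of_eq_of_le Module.finrank_zero_of_subsingleton (Nat.zero_le _)
  | succ d ih =>
    intro F hF hdim i
    obtain ⟨α, hα⟩ := ih _ (BddFam.cokernels k hF hP) (fun H ⟨G, b, hG, hb, hH⟩ =>
      hH ▸ dim_cokernel_lt k hP (hF.coh G hG) b hb (hdim G hG)) i
    obtain ⟨β, hβ⟩ := ih _ (BddFam.cokernels k hF hQ) (fun H ⟨G, b, hG, hb, hH⟩ =>
      hH ▸ dim_cokernel_lt k hQ (hF.coh G hG) b hb (hdim G hG)) (i - 1)
    obtain ⟨B, hB⟩ := hF.bdd 1 i
    refine ⟨B + (α + β), fun G hG c hc m => ?_⟩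
    have hcoh := hF.coh G hG
    obtain ⟨bP, hbP⟩ := exists_glocus_superset k hP (h₁ s (Nat.le_add_right _ _)).2 (AssSch12.finite_ass G hcoh)
    obtain ⟨bQ, hbQ⟩ := exists_glocus_superset k hQ (h₂ s (Nat.le_add_left _ _)).2 (AssSch12.finite_ass G hcoh)
    haveI := Mumford23.mono_mulSec hcoh.1 bP hbP
    haveI := Mumford23.mono_mulSec hcoh.1 bQ hbQ
    have hSP : (ShortComplex.mk (mulSec G bP) (cokernel.π _) (cokernel.condition _)).ShortExact :=
      { exact := ShortComplex.exact_cokernel _ }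
    have hSQ : (ShortComplex.mk (mulSec G bQ) (cokernel.π _) (cokernel.condition _)).ShortExact :=
      { exact := ShortComplex.exact_cokernel _ }
    have hstep : ∀ e : ℕ, hh k G i (c * ℓ ^ (e + 1)) ≤ hh k G i (c * ℓ ^ e) + (α + β) * bnd d (e + 1) := fun e => by
      have p1 := (hh_triangle k hSP hcoh (isCoh_twist hP hcoh)
        (isCoh_cokernel _ hcoh.1 (isCoh_twist hP hcoh)) i (c * ℓ ^ e)).1
      have q2 := (hh_triangle k hSQ hcoh (isCoh_twist hQ hcoh)
        (isCoh_cokernel _ hcoh.1 (isCoh_twist hQ hcoh)) i (c * ℓ ^ (e + 1))).2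
      dsimp only at p1 q2
      rw [hh_tensor k hP] at p1
      rw [hh_tensor k hQ, show InvCl.mk Q hQ * (c * ℓ ^ (e + 1)) = InvCl.mk P hP * (c * ℓ ^ e) by
        rw [← hPQ, pow_succ]; ac_rfl] at q2
      have a1 := (hα _ ⟨G, bP, hG, hbP, rfl⟩ c hc e).trans (Nat.mul_le_mul_left _ (bnd_mono d (Nat.le_add_right e 1)))
      have b1 := hβ _ ⟨G, bQ, hG, hbQ, rfl⟩ c hc (e + 1)
      have hif : (if i = 0 then 0 else hh k (cokernel (mulSec G bQ)) (i - 1) (c * ℓ ^ (e + 1))) ≤
          hh k (cokernel (mulSec G bQ)) (i - 1) (c * ℓ ^ (e + 1)) := by split <;> omega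
      rw [add_mul]
      omega
    have h0 : hh k G i (c * ℓ ^ 0) ≤ B := by
      have := hB G hG c hc
      rwa [one_mul, ← mul_one c, ← pow_zero ℓ] at this
    generalize α + β = T at hstep ⊢
    have hmain : ∀ e, hh k G i (c * ℓ ^ e) ≤ B + e * (T * bnd d e) := fun e => by
      induction e with
      | zero => omega
      | succ e ihe =>
        have h1 : e * (T * bnd d e) ≤ e * (T * bnd d (e + 1)) :=
          Nat.mul_le_mul_left _ (Nat.mul_le_mul_left _ (bnd_mono d (Nat.le_succ e)))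
        have := hstep e
        rw [add_mul, one_mul]
        omega
    have h1 : 1 ≤ bnd (d + 1) m := Nat.one_le_pow _ _ (by omega)
    calc hh k G i (c * ℓ ^ m) ≤ B + m * (T * bnd d m) := hmain m
      _ ≤ B * bnd (d + 1) m + T * bnd (d + 1) m := add_le_add (Nat.le_mul_of_pos_right _ h1)
          (by rw [mul_left_comm]; exact Nat.mul_le_mul_left _ (mul_bnd_le d m))
      _ = _ := (add_mul _ _ _).symm

end Groth.Agent.NumTriv23

end
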