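import Groth.Agent.NumTriv23.Hhat
import Groth.Agent.VarietyLib.Nakai
import Groth.Agent.VarietyLib.PullClass
import Groth.Agent.EulerLib.FieldExt
import Groth.Agent.DimLib.BaseChange

/-!
# Numerically trivial classes and extensions of the base field
-/

set_option autoImplicit false
set_option linter.style.haveILetI false
set_option linter.unusedSectionVars false
set_option backward.isDefEq.respectTransparency.types false

universe u

open CategoryTheory CategoryTheory.Limits AlgebraicGeometry TopologicalSpace Opposite TensorProduct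
open Groth.Agent.Coherent Groth.Agent.AmpleLib Groth.Agent.EulerLib Groth.Agent.VarietyLib
open Groth.Agent.H0Growth23
open Groth.Agent.AssSch12 (clM clI)

noncomputable section

namespace Groth.Agent.NumTriv23

variable {X : Scheme.{u}} (k : Type u) [Field k] [X.Over (Spec (CommRingCat.of k))]
  [IsProper (X ↘ Spec (CommRingCat.of k))]

theorem sameDeg_mul_num {a c : InvCl X} (hc : IsNum k c) : SameDeg k (a * c) a := fun y hy => by
  have h := chi_curve_mul k a c hy
  rw [hc y hy] at h
  omega

/-- Ampleness is insensitive to numerically trivial twists. -/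
theorem isAmple_tensor_num {A R : X.Modules} (hA : CohB1.IsAmple A) (hR : PicF.IsInvertible R)
    (hnum : IsNum k (InvCl.mk R hR)) : CohB1.IsAmple (CohB1.tensorMod A R) := by
  haveI := isNoetherian_of_proper (X := X) k
  refine isAmple_of_posInt k (isInvertible_tensorMod hA.1 hR) fun z r _ hz => ?_
  have hd : topologicalKrullDim (CohB1.support (clM z)) = (r : WithBot ℕ∞) := by rw [EulerLib.support_clM, hz]
  rw [← InvCl.mk_mul hA.1 hR, interDeg_congr k (fun _ => sameDeg_mul_num k hnum) (isCoh_clM z) hd.le]
  exact interDeg_pos k r (fun _ => A) (fun _ => hA) _ (isCoh_clM z) hd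

/-- The degree on a curve is additive. -/
theorem dg_mul (a b : InvCl X) {y : X} (hy : topologicalKrullDim (closure {y} : Set X) = 1) :
    chiCl k (clM y) (a * b) - chiCl k (clM y) 1 =
      (chiCl k (clM y) a - chiCl k (clM y) 1) + (chiCl k (clM y) b - chiCl k (clM y) 1) := by
  have h := chi_curve_mul k a b hy
  omega

theorem dg_pos {A : X.Modules} (hA : CohB1.IsAmple A) {y : X} (hy : topologicalKrullDim (closure {y} : Set X) = 1) :
    0 < chiCl k (clM y) (InvCl.mk A hA.1) - chiCl k (clM y) 1 := by
  haveI := isNoetherian_of_proper (X := X) k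
  have h := interDeg_pos k 1 (fun _ => A) (fun _ => hA) _ (isCoh_clM y) (by rw [EulerLib.support_clM, hy]; rfl)
  rw [show (fun _ : Fin 1 => InvCl.mk A hA.1) = Fin.cons (InvCl.mk A hA.1) (fun i : Fin 0 => i.elim0) from
    funext fun i => by rw [Subsingleton.elim i 0]; rfl, interDeg_cons, interDeg_zero, mul_one] at h
  exact h

/-- A class whose multiples keep an ample class ample has non-negative degrees. -/
theorem dg_nonneg_of_ample {A : X.Modules} (hA : CohB1.IsAmple A) {r : InvCl X}
    (h : ∀ n : ℕ, ∃ (B : X.Modules) (hB : CohB1.IsAmple B), InvCl.mk B hB.1 = InvCl.mk A hA.1 * r ^ n)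
    {y : X} (hy : topologicalKrullDim (closure {y} : Set X) = 1) :
    0 ≤ chiCl k (clM y) r - chiCl k (clM y) 1 := by
  have hpow : ∀ n : ℕ, chiCl k (clM y) (r ^ n) - chiCl k (clM y) 1 =
      (n : ℤ) * (chiCl k (clM y) r - chiCl k (clM y) 1) := fun n => by
    induction n with
    | zero => simp
    | succ n ih => rw [pow_succ, dg_mul k _ _ hy, ih]; push_cast; ring
  by_contra hneg
  push Not at hneg
  set a := chiCl k (clM y) (InvCl.mk A hA.1) - chiCl k (clM y) 1 with ha
  obtain ⟨B, hB, hBc⟩ := h a.toNat
  have h1 := dg_pos k hB hy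
  rw [hBc, dg_mul k _ _ hy, hpow, ← ha] at h1
  have h2 : (a.toNat : ℤ) = a := Int.toNat_of_nonneg (dg_pos k hA hy).le
  rw [h2] at h1
  have h3 := dg_pos k hA hy
  rw [← ha] at h3
  nlinarith

section bc

variable (K : Type u) [Field K] [Algebra k K]

/-- The structure morphism of the base change. -/
@[reducible] def overBC : (Curv2.bc k X K).Over (Spec (CommRingCat.of K)) := ⟨Curv2.bcSnd k X K⟩

attribute [local instance] overBC

instance isProper_bc : IsProper ((Curv2.bc k X K) ↘ Spec (CommRingCat.of K)) :=
  MorphismProperty.pullback_snd (P := @IsProper) _ _ inferInstance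

instance isAffineHom_bcFst : IsAffineHom (Curv2.bcFst k X K) :=
  MorphismProperty.pullback_fst (P := @IsAffineHom) _ _ inferInstance

theorem isAmple_bc {A : X.Modules} (hA : CohB1.IsAmple A) :
    CohB1.IsAmple ((Scheme.Modules.pullback (Curv2.bcFst k X K)).obj A) :=
  isAmple_pullback_of_isAffineHom _ hA

/-- Numerical triviality is stable under extensions of the base field. -/
theorem isNum_bc (hproj : ∃ A : X.Modules, CohB1.IsAmple A) {c : InvCl X} (hc : IsNum k c) :
    IsNum K (pullHom (Curv2.bcFst k X K) c) := by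
  haveI := isNoetherian_of_proper (X := X) k
  obtain ⟨A, hA⟩ := hproj
  set g := Curv2.bcFst k X K
  have key : ∀ c : InvCl X, IsNum k c → ∀ y : Curv2.bc k X K, topologicalKrullDim (closure {y} : Set _) = 1 →
      0 ≤ chiCl K (clM y) (pullHom g c) - chiCl K (clM y) 1 := fun c hc y hy => by
    refine dg_nonneg_of_ample K (isAmple_bc k K hA) (fun n => ?_) hy
    have hR := isInvertible_repCl (c ^ n)
    have hAR := isAmple_tensor_num k hA hR (by rw [mk_repCl]; exact hc.pow k n)
    refine ⟨_, isAmple_bc k K hAR, ?_⟩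
    rw [← pullHom_mk g hAR.1, ← InvCl.mk_mul hA.1 hR, mk_repCl, map_mul, map_pow, pullHom_mk g hA.1]
  intro y hy
  obtain ⟨c', hcc⟩ : ∃ c' : InvCl X, c * c' = 1 := by
    obtain ⟨c', hc'⟩ := H0Growth23.exists_inv (isInvertible_repCl c)
    exact ⟨c', by rwa [mk_repCl] at hc'⟩
  have h1 := key c hc y hy
  have h2 := key c' (hc.of_mul_eq_one k hcc) y hy
  have h3 := dg_mul K (pullHom g c) (pullHom g c') hy
  rw [← map_mul, hcc, map_one] at h3
  omega

theorem finrank_bc (M : X.Modules) (hM : Coh.IsQCoh M) (i : ℕ) :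
    Module.finrank K (Coh.HH (Curv2.bc k X K) ((Scheme.Modules.pullback (Curv2.bcFst k X K)).obj M) i) =
      Module.finrank k (Coh.HH X M i) := by
  haveI := hM
  haveI := isNoetherian_of_proper (X := X) k
  obtain ⟨e⟩ := nonempty_flat_base_change (A := k) (B := K) (g := Curv2.bcFst k X K) (M := M)
    (isPullback_bc k X K) i
  exact e.finrank_eq.symm.trans Module.finrank_baseChange

theorem hh_bc (i : ℕ) (c : InvCl X) :
    hh K (Coh.structureModule (Curv2.bc k X K)) i (pullHom (Curv2.bcFst k X K) c) =
      hh k (Coh.structureModule X) i c := by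
  haveI := isNoetherian_of_proper (X := X) k
  conv_lhs => rw [← mk_repCl c, pullHom_mk, hh_structure]
  conv_rhs => rw [← mk_repCl c, hh_structure]
  exact finrank_bc k K _ (CurveRR24.isCoh_of_isInvertible k (isInvertible_repCl c)).1 i

theorem isIntegral_bc [GeometricallyIntegral (X ↘ Spec (CommRingCat.of k))] : IsIntegral (Curv2.bc k X K) :=
  GeometricallyIntegral.geometrically_isIntegral (f := X ↘ Spec (CommRingCat.of k))
    (Spec.map (CommRingCat.ofHom (algebraMap k K))) _ _ (isPullback_bc k X K)

theorem dim_bc {d : ℕ} (hd : topologicalKrullDim X = d) : topologicalKrullDim (Curv2.bc k X K) = d :=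
  (DimLib.topologicalKrullDim_bc (X ↘ Spec (CommRingCat.of k)) K).trans hd

theorem exists_ample_bc (hproj : ∃ A : X.Modules, CohB1.IsAmple A) :
    ∃ A : (Curv2.bc k X K).Modules, CohB1.IsAmple A :=
  let ⟨_, hA⟩ := hproj
  ⟨_, isAmple_bc k K hA⟩

end bc

end Groth.Agent.NumTriv23

end
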