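import Groth.Agent.NumTriv23.Uniform
import Groth.Agent.H0Growth23.Small

/-!
# Asymptotic cohomological functions only depend on the numerical class
-/

set_option autoImplicit false
set_option linter.style.haveILetI false
set_option linter.unusedSectionVars false
set_option backward.isDefEq.respectTransparency.types false

universe u

open CategoryTheory CategoryTheory.Limits AlgebraicGeometry TopologicalSpace Opposite Filter
open Groth.Agent.Coherent Groth.Agent.AmpleLib Groth.Agent.EulerLib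
open Groth.Agent.H0Growth23
open scoped Topology

noncomputable section

namespace Groth.Agent.NumTriv23

variable {X : Scheme.{u}} (k : Type u) [Field k] [X.Over (Spec (CommRingCat.of k))]

theorem hh_repCl [IsProper (X ↘ Spec (CommRingCat.of k))] (a : InvCl X) (i : ℕ) (c : InvCl X) :
    hh k (repCl a) i c = hh k (Coh.structureModule X) i (a * c) := by
  rw [← hh_twCl k]
  exact CurveRR24.finrank_HH_congr k (Coherent.tensorIso (unitTensorIso (repCl a)).symm (Iso.refl _)) i

theorem h0Cl_eq_hh (e : InvCl X) : h0Cl k e = hh k (Coh.structureModule X) 0 e := by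
  conv_rhs => rw [← mk_repCl e, hh_structure]
  rfl

variable [IsProper (X ↘ Spec (CommRingCat.of k))] [Infinite k]

theorem h0Cl_ne_zero_of_effCl {e : InvCl X} (he : EffCl e) : h0Cl k e ≠ 0 := fun h => by
  haveI := isNoetherian_of_proper (X := X) k
  obtain ⟨s, hs⟩ := he
  haveI := CurveRR24.finite_HH_of_isCoh k (CurveRR24.isCoh_of_isInvertible k (isInvertible_repCl e)) 0
  haveI : Subsingleton (Coh.HH X (repCl e) 0) := Module.finrank_zero_iff.1 h
  haveI : Subsingleton ((Coh.toAb (repCl e)).obj.obj (op (⊤ : X.Opens))) :=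
    ((HHTopEquiv (repCl e) 0).trans (secH (X := X.toTopCat) (Coh.toAb (repCl e)) (⊤ : X.Opens))).symm.toEquiv.subsingleton
  exact hs (Subsingleton.elim (α := (Coh.toAb (repCl e)).obj.obj (op (⊤ : X.Opens))) s 0)

/-- An ample class a power of which stays effective under all numerically trivial perturbations. -/
theorem exists_ample_eff_num [IsIntegral X] (hproj : ∃ A : X.Modules, CohB1.IsAmple A) :
    ∃ (A : X.Modules) (hA : CohB1.IsAmple A) (m : ℕ), EffCl (InvCl.mk A hA.1) ∧
      ∀ c, IsNum k c → EffCl (InvCl.mk A hA.1 ^ m * c) := by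
  haveI := isNoetherian_of_proper (X := X) k
  obtain ⟨A, hA, hA0⟩ := exists_ample_eff k hproj
  have hO := Coherent.isCoh_structureModule X
  obtain ⟨m₀, hm₀⟩ := exists_uniform_vanish k hA hO
  refine ⟨A, hA, m₀, hA0, fun c hc => effCl_of_h0_pos k ?_⟩
  have hv : ∀ c, IsNum k c → chiCl k (Coh.structureModule X) (InvCl.mk A hA.1 ^ m₀ * c) =
      (h0Cl k (InvCl.mk A hA.1 ^ m₀ * c) : ℤ) := fun c hc => by
    have hv1 : ∀ i, 1 ≤ i → hh k (Coh.structureModule X) i (InvCl.mk A hA.1 ^ m₀ * c) = 0 := fun i hi => by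
      rw [mul_comm]; exact hm₀ m₀ le_rfl c hc i hi
    rw [chiCl_eq_of_vanish k (fun i hi => hv1 i (by omega)) hO, hv1 1 le_rfl, ← h0Cl_eq_hh, Nat.cast_zero,
      sub_zero]
  have h := chiCl_eq_of_num k hproj (isCoh_twCl k hO (InvCl.mk A hA.1 ^ m₀)) hc
  rw [chiCl_twCl, chiCl_twCl, hv c hc, hv 1 (isNum_one k), Nat.cast_inj, mul_one] at h
  rw [h]
  exact h0Cl_ne_zero_of_effCl k (hA0.pow m₀)

/-- A class all of whose numerically trivial perturbations are effective. -/
theorem exists_eff_num [IsIntegral X] (hproj : ∃ A : X.Modules, CohB1.IsAmple A) :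
    ∃ α : InvCl X, ∀ c, IsNum k c → EffCl (α * c) :=
  let ⟨_, _, _, _, h⟩ := exists_ample_eff_num k hproj
  ⟨_, h⟩

/-- Twisting by a numerically trivial class changes the cohomology of powers only by lower order terms. -/
theorem exists_hh_pow_num_sub_le [IsIntegral X] (hproj : ∃ A : X.Modules, CohB1.IsAmple A) {n : ℕ}
    (hn : topologicalKrullDim X = n) (ℓ : InvCl X) (i : ℕ) :
    ∃ C : ℕ, ∀ c, IsNum k c → ∀ m : ℕ,
      hh k (Coh.structureModule X) i (c * ℓ ^ m) ≤ hh k (Coh.structureModule X) i (ℓ ^ m) + C * bnd n m ∧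
      hh k (Coh.structureModule X) i (ℓ ^ m) ≤ hh k (Coh.structureModule X) i (c * ℓ ^ m) + C * bnd n m := by
  haveI := isNoetherian_of_proper (X := X) k
  haveI : X.IsSeparated := isSeparated_of_proper k
  obtain ⟨α, hα⟩ := exists_eff_num k hproj
  have hO := Coherent.isCoh_structureModule X
  let F : X.Modules → Prop := fun H => ∃ (e : InvCl X) (s : Γ(repCl e, (⊤ : X.Opens))),
    s ≠ 0 ∧ (∃ c, IsNum k c ∧ e = α * c) ∧ H = cokernel (unitDesc (repCl e) s)
  have hE : ∀ e : InvCl X, Coh.IsCoh (repCl e) := fun e =>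
    CurveRR24.isCoh_of_isInvertible k (isInvertible_repCl e)
  have hFcoh : ∀ H, F H → Coh.IsCoh H := by
    rintro H ⟨e, s, -, -, rfl⟩
    exact isCoh_cokernel _ hO.1 (hE e)
  have hF : BddFam k F := ⟨hFcoh, fun e₀ j => by
    obtain ⟨B₁, hB₁⟩ := exists_uniform_bound k hproj (isCoh_twCl k hO (α * e₀)) j
    obtain ⟨B₂, hB₂⟩ := exists_uniform_bound k hproj (isCoh_twCl k hO e₀) (j + 1)
    refine ⟨B₁ + B₂, ?_⟩
    rintro H ⟨e, s, hs, ⟨c', hc', rfl⟩, rfl⟩ c hc
    haveI := CurveRR24.mono_unitDesc (isInvertible_repCl (α * c')) hs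
    have hS : (ShortComplex.mk (unitDesc (repCl (α * c')) s) (cokernel.π _) (cokernel.condition _)).ShortExact :=
      { exact := ShortComplex.exact_cokernel _ }
    have h := hh_right k hS hO (hE _) (isCoh_cokernel _ hO.1 (hE _)) j (e₀ * c)
    dsimp only at h
    have h1 := hB₁ (c' * c) (hc'.mul k hc)
    have h2 := hB₂ c hc
    rw [hh_twCl] at h1 h2
    rw [hh_repCl, mul_mul_mul_comm] at h
    exact h.trans (add_le_add h1 h2)⟩
  have hFd : ∀ H, F H → topologicalKrullDim (CohB1.support H) < (n : WithBot ℕ∞) := by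
    rintro H ⟨e, s, hs, -, rfl⟩
    exact (dim_mono (CurveRR24.support_cokernel_unitDesc s)).trans_lt
      (dim_lt_of_notMem (glocus (repCl e) s).2.isClosed_compl (Set.subset_univ _) isClosed_univ
        (genericPoint_spec X) (fun h => h (CurveRR24.genericPoint_mem_glocus (isInvertible_repCl _) hs))
        ((Topology.IsInducing.subtypeVal.topologicalKrullDim_le).trans hn.le))
  obtain ⟨C₁, hC₁⟩ := exists_fam_growth k hproj ℓ n F hF hFd i
  obtain ⟨C₂, hC₂⟩ := exists_fam_growth k hproj ℓ n F hF hFd (i - 1)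
  have key : ∀ c' c, IsNum k c' → IsNum k c → ∀ m : ℕ,
      hh k (Coh.structureModule X) i (α * c' * (c * ℓ ^ m)) ≤ hh k (Coh.structureModule X) i (c * ℓ ^ m) + C₁ * bnd n m ∧
      hh k (Coh.structureModule X) i (c * ℓ ^ m) ≤ hh k (Coh.structureModule X) i (α * c' * (c * ℓ ^ m)) + C₂ * bnd n m := fun c' c hc' hc m => by
    obtain ⟨s, hs⟩ := hα c' hc'
    haveI := CurveRR24.mono_unitDesc (isInvertible_repCl (α * c')) hs
    have hS : (ShortComplex.mk (unitDesc (repCl (α * c')) s) (cokernel.π _) (cokernel.condition _)).ShortExact :=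
      { exact := ShortComplex.exact_cokernel _ }
    obtain ⟨t1, t2⟩ := hh_triangle k hS hO (hE _) (isCoh_cokernel _ hO.1 (hE _)) i (c * ℓ ^ m)
    dsimp only at t1 t2
    rw [hh_repCl] at t1 t2
    have a1 := hC₁ _ ⟨_, s, hs, ⟨c', hc', rfl⟩, rfl⟩ c hc m
    have a2 := hC₂ _ ⟨_, s, hs, ⟨c', hc', rfl⟩, rfl⟩ c hc m
    refine ⟨t1.trans (Nat.add_le_add_left a1 _), t2.trans (Nat.add_le_add_left ?_ _)⟩
    split
    · exact Nat.zero_le _
    · exact a2
  refine ⟨C₁ + C₂, fun c hc m => ?_⟩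
  obtain ⟨u1, u2⟩ := key 1 c (isNum_one k) hc m
  obtain ⟨v1, v2⟩ := key c 1 hc (isNum_one k) m
  rw [mul_one] at u1 u2
  rw [one_mul, mul_assoc] at v1 v2
  rw [add_mul]
  constructor <;> omega

/-- `ĥ^i` only depends on the numerical class. -/
theorem hhat_tensor_num [IsIntegral X] (hproj : ∃ A : X.Modules, CohB1.IsAmple A) {n : ℕ}
    (hn : topologicalKrullDim X = n) (i : ℕ) {L P : X.Modules} (hL : PicF.IsInvertible L) (hP : PicF.IsInvertible P)
    (hnum : IsNum k (InvCl.mk P hP)) :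
    W4c5asymptcohfn.hhat k X n i (CohB1.tensorMod L P) = W4c5asymptcohfn.hhat k X n i L := by
  haveI := isNoetherian_of_proper (X := X) k
  rw [hhat_eq k n i _ (isInvertible_tensorMod hL hP), hhat_eq k n i _ hL, ← InvCl.mk_mul hL hP]
  obtain ⟨C, hC⟩ := exists_hh_pow_num_sub_le k hproj hn (InvCl.mk L hL) i
  have he := (tendsto_bnd_div n 1).const_mul ((C : ℝ) * n.factorial)
  rw [mul_zero] at he
  refine limsup_eq_of_tendsto_zero (hseq_nonneg k n i _ _) (hseq_nonneg k n i _ _)
    (isBoundedUnder_hseq k hproj (Coherent.isCoh_structureModule X) (dim_lt_succ_of_dim_eq hn _) L hL i) he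
    (Eventually.of_forall fun m => ?_)
  obtain ⟨h1, h2⟩ := hC _ (hnum.pow k m) m
  rw [← mul_pow, mul_comm (InvCl.mk P hP)] at h1 h2
  have r1 : (hh k (Coh.structureModule X) i ((InvCl.mk L hL * InvCl.mk P hP) ^ m) : ℝ) ≤
      hh k (Coh.structureModule X) i (InvCl.mk L hL ^ m) + (C : ℝ) * bnd n m := by exact_mod_cast h1
  have r2 : (hh k (Coh.structureModule X) i (InvCl.mk L hL ^ m) : ℝ) ≤
      hh k (Coh.structureModule X) i ((InvCl.mk L hL * InvCl.mk P hP) ^ m) + (C : ℝ) * bnd n m := by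
    exact_mod_cast h2
  simp only [hseq, mul_one]
  rw [← sub_div, abs_div, abs_of_nonneg (pow_nonneg (Nat.cast_nonneg m : (0 : ℝ) ≤ m) n), ← sub_mul, abs_mul,
    Nat.abs_cast, mul_div_assoc', mul_right_comm (C : ℝ)]
  exact div_le_div_of_nonneg_right (mul_le_mul_of_nonneg_right (abs_le.2 ⟨by linarith, by linarith⟩)
    (Nat.cast_nonneg _)) (pow_nonneg (Nat.cast_nonneg _) _)

end Groth.Agent.NumTriv23

end
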