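import Groth.Agent.NumTriv23.FieldExt
import Groth.Agent.H0Growth23.ENN

/-!
# Sections of numerically equivalent line bundles over an arbitrary field
-/

set_option autoImplicit false
set_option linter.style.haveILetI false
set_option linter.unusedSectionVars false
set_option backward.isDefEq.respectTransparency.types false

universe u

open CategoryTheory CategoryTheory.Limits AlgebraicGeometry TopologicalSpace Opposite Filter
open Groth.Agent.Coherent Groth.Agent.AmpleLib Groth.Agent.EulerLib Groth.Agent.VarietyLib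
open Groth.Agent.H0Growth23
open scoped Topology ENNReal

noncomputable section

namespace Groth.Agent.NumTriv23

section infinite

variable {X : Scheme.{u}} (k : Type u) [Field k] [X.Over (Spec (CommRingCat.of k))]
  [IsProper (X ↘ Spec (CommRingCat.of k))] [Infinite k] [IsIntegral X]

/-- Sections of high powers of an ample module do not see numerically trivial twists. -/
theorem exists_h0_ample_num {A : X.Modules} (hA : CohB1.IsAmple A) :
    ∃ m₀ : ℕ, ∀ m, m₀ ≤ m → ∀ c, IsNum k c →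
      hh k (Coh.structureModule X) 0 (InvCl.mk A hA.1 ^ m * c) =
          hh k (Coh.structureModule X) 0 (InvCl.mk A hA.1 ^ m) ∧
        hh k (Coh.structureModule X) 0 (InvCl.mk A hA.1 ^ m) ≠ 0 := by
  haveI := isNoetherian_of_proper (X := X) k
  haveI : X.IsSeparated := isSeparated_of_proper k
  have hO := Coherent.isCoh_structureModule X
  obtain ⟨m₀, hm₀⟩ := exists_uniform_vanish k hA hO
  obtain ⟨n₁, -, hn₁⟩ := eventually_ample_and_generated hA (isInvertible_structureModule (X := X))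
  refine ⟨m₀ + n₁, fun m hm c hc => ?_⟩
  set a := InvCl.mk A hA.1
  have hv : ∀ c, IsNum k c → chiCl k (Coh.structureModule X) (a ^ m * c) =
      (hh k (Coh.structureModule X) 0 (a ^ m * c) : ℤ) := fun c hc => by
    have hv1 : ∀ i, 1 ≤ i → hh k (Coh.structureModule X) i (a ^ m * c) = 0 := fun i hi => by
      rw [mul_comm]; exact hm₀ m (by omega) c hc i hi
    rw [chiCl_eq_of_vanish k (fun i hi => hv1 i (by omega)) hO, hv1 1 le_rfl, Nat.cast_zero, sub_zero]
  have h := chiCl_eq_of_num k ⟨A, hA⟩ (isCoh_twCl k hO (a ^ m)) hc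
  rw [chiCl_twCl, chiCl_twCl, hv c hc, hv 1 (isNum_one k), Nat.cast_inj, mul_one] at h
  refine ⟨h, ?_⟩
  rw [← h0Cl_eq_hh]
  refine h0Cl_ne_zero_of_effCl k ?_
  have he := effCl_of_gg (isInvertible_tensorMod (isInvertible_tensorPow hA.1 m) isInvertible_structureModule)
    (hn₁ m (by omega)).2
  rwa [← InvCl.mk_mul (isInvertible_tensorPow hA.1 m) isInvertible_structureModule, InvCl.mk_tensorPow hA.1,
    show InvCl.mk (Coh.structureModule X) isInvertible_structureModule = 1 from rfl, mul_one] at he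

/-- A big class has a power all whose multiples stay effective under numerically trivial twists. -/
theorem exists_eff_big_num (hproj : ∃ A : X.Modules, CohB1.IsAmple A) {d : ℕ}
    (hd : topologicalKrullDim X = d) {ℓ : InvCl X}
    (hbig : ∀ C : ℚ, ∃ m : ℕ, 1 ≤ m ∧ C * (m : ℚ) ^ d < (h0Cl k (ℓ ^ m) : ℚ) * m) :
    ∃ a : ℕ, 0 < a ∧ ∀ j : ℕ, 0 < j → ∀ c, IsNum k c → EffCl (ℓ ^ (a * j) * c) := by
  obtain ⟨A, hA, m, hA0, hm⟩ := exists_ample_eff_num k hproj
  obtain ⟨a', ha'⟩ := H0Growth23.exists_inv hA.1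
  obtain ⟨e, he0, he⟩ := exists_eff_sub_any k hd hA ha' hbig
  set α := InvCl.mk A hA.1
  refine ⟨e * (m + 1), Nat.mul_pos he0 (Nat.succ_pos _), fun j hj c hc => ?_⟩
  obtain ⟨j, rfl⟩ := Nat.exists_eq_succ_of_ne_zero hj.ne'
  have key := ((he.pow ((m + 1) * (j + 1))).mul ((hA0.pow (j + 1)).mul (hA0.pow (m * j)))).mul (hm c hc)
  have hl : ℓ ^ e = ℓ ^ e * a' * α := by rw [mul_assoc, mul_comm a', ha', mul_one]
  have hexp : (m + 1) * (j + 1) = j + 1 + m * j + m := by ring
  rwa [← pow_add, ← mul_assoc, mul_assoc _ (α ^ (j + 1 + m * j)), ← pow_add, ← hexp, ← mul_pow, ← hl, ← pow_mul,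
    ← mul_assoc e] at key

/-- Twisting by a numerically trivial class does not change the leading term of `h⁰`. -/
theorem exists_h0_num_le (hproj : ∃ A : X.Modules, CohB1.IsAmple A) {d : ℕ}
    (hd : topologicalKrullDim X = d) (ℓ : InvCl X) :
    ∃ C : ℕ, ∀ c, IsNum k c → ∀ m : ℕ,
      hh k (Coh.structureModule X) 0 ((ℓ * c) ^ m) ≤ hh k (Coh.structureModule X) 0 (ℓ ^ m) + C * bnd d m ∧
      hh k (Coh.structureModule X) 0 (ℓ ^ m) ≤ hh k (Coh.structureModule X) 0 ((ℓ * c) ^ m) + C * bnd d m := by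
  obtain ⟨C, hC⟩ := exists_hh_pow_num_sub_le k hproj hd ℓ 0
  refine ⟨C, fun c hc m => ?_⟩
  have h := hC _ (hc.pow k m) m
  rwa [← mul_pow, mul_comm c] at h

end infinite

section real

variable {f g : ℕ → ℕ} {d : ℕ}

theorem limsup_ratio_le {C : ℕ} (h : ∀ m, f m ≤ g m + C * bnd d m) :
    limsup (ratio f d) atTop ≤ limsup (ratio g d) atTop := by
  have ht : Tendsto (fun m : ℕ => ENNReal.ofReal ((C : ℝ) * (((bnd d (m * 1) : ℕ) : ℝ) / (m : ℝ) ^ d))) atTop (𝓝 0) := by
    have h0 := (tendsto_bnd_div d 1).const_mul (C : ℝ)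
    rw [mul_zero] at h0
    rw [← ENNReal.ofReal_zero]
    exact ENNReal.tendsto_ofReal h0
  refine ENNReal.le_of_forall_pos_le_add fun η hη hlt => ?_
  have hη' : (0 : ℝ≥0∞) < η := by exact_mod_cast hη
  refine (limsup_le_limsup (v := fun m => ratio g d m + η) ?_).trans (le_of_eq
    (limsup_add_const atTop (ratio g d) (η : ℝ≥0∞) (by isBoundedDefault) (by isBoundedDefault)))
  filter_upwards [eventually_ge_atTop 1, ht.eventually (eventually_le_nhds hη')] with m hm hme
  refine le_trans ?_ (add_le_add le_rfl hme)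
  rw [ratio_eq_ofReal f d hm, ratio_eq_ofReal g d hm, ← ENNReal.ofReal_add (by positivity) (by positivity)]
  refine ENNReal.ofReal_le_ofReal ?_
  rw [mul_one, mul_div_assoc', ← add_div]
  exact div_le_div_of_nonneg_right (by exact_mod_cast h m) (by positivity)

end real

section field

variable (k : Type u) [Field k] {X : Scheme.{u}} [X.Over (Spec (CommRingCat.of k))] [IsIntegral X]
  [GeometricallyIntegral (X ↘ Spec (CommRingCat.of k))] [IsProper (X ↘ Spec (CommRingCat.of k))]

attribute [local instance] overBC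

theorem hh_bc_ac (i : ℕ) (c : InvCl X) :
    hh k (Coh.structureModule X) i c = hh (AlgebraicClosure k) (Coh.structureModule _) i
      (pullHom (Curv2.bcFst k X (AlgebraicClosure k)) c) :=
  (hh_bc k (AlgebraicClosure k) i c).symm

theorem exists_h0_ample_num' {A : X.Modules} (hA : CohB1.IsAmple A) :
    ∃ m₀ : ℕ, ∀ m, m₀ ≤ m → ∀ c, IsNum k c →
      hh k (Coh.structureModule X) 0 (InvCl.mk A hA.1 ^ m * c) =
          hh k (Coh.structureModule X) 0 (InvCl.mk A hA.1 ^ m) ∧
        hh k (Coh.structureModule X) 0 (InvCl.mk A hA.1 ^ m) ≠ 0 := by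
  haveI := isIntegral_bc (X := X) k (AlgebraicClosure k)
  obtain ⟨m₀, hm₀⟩ := exists_h0_ample_num (AlgebraicClosure k) (isAmple_bc k (AlgebraicClosure k) hA)
  refine ⟨m₀, fun m hm c hc => ?_⟩
  have h := hm₀ m hm _ (isNum_bc k (AlgebraicClosure k) ⟨A, hA⟩ hc)
  rwa [← pullHom_mk _ hA.1, ← map_pow, ← map_mul, ← hh_bc_ac, ← hh_bc_ac] at h

theorem limsup_h0_num (hproj : ∃ A : X.Modules, CohB1.IsAmple A) {d : ℕ} (hd : topologicalKrullDim X = d)
    (ℓ c : InvCl X) (hc : IsNum k c) :
    limsup (ratio (fun m => hh k (Coh.structureModule X) 0 ((ℓ * c) ^ m)) d) atTop =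
      limsup (ratio (fun m => hh k (Coh.structureModule X) 0 (ℓ ^ m)) d) atTop := by
  haveI := isIntegral_bc (X := X) k (AlgebraicClosure k)
  obtain ⟨C, hC⟩ := exists_h0_num_le (AlgebraicClosure k) (exists_ample_bc k _ hproj)
    (dim_bc k (AlgebraicClosure k) hd) (pullHom (Curv2.bcFst k X (AlgebraicClosure k)) ℓ)
  have h : ∀ m : ℕ, _ := fun m => hC _ (isNum_bc k (AlgebraicClosure k) hproj hc) m
  simp only [← map_mul, ← map_pow, ← hh_bc_ac] at h
  exact le_antisymm (limsup_ratio_le fun m => (h m).1) (limsup_ratio_le fun m => (h m).2)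

theorem exists_h0_big_num (hproj : ∃ A : X.Modules, CohB1.IsAmple A) {d : ℕ} (hd : topologicalKrullDim X = d)
    (ℓ : InvCl X) (hbig : 0 < liminf (ratio (fun m => hh k (Coh.structureModule X) 0 (ℓ ^ m)) d) atTop) :
    ∃ a : ℕ, 0 < a ∧ ∀ j : ℕ, 0 < j → ∀ c, IsNum k c → hh k (Coh.structureModule X) 0 (ℓ ^ (a * j) * c) ≠ 0 := by
  haveI := isIntegral_bc (X := X) k (AlgebraicClosure k)
  have hb := big_of_limsup_pos _ _ (hbig.trans_le (liminf_le_limsup (by isBoundedDefault) (by isBoundedDefault)))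
  obtain ⟨a, ha, h⟩ := exists_eff_big_num (AlgebraicClosure k) (exists_ample_bc k _ hproj)
    (dim_bc k (AlgebraicClosure k) hd) (ℓ := pullHom (Curv2.bcFst k X (AlgebraicClosure k)) ℓ) fun C => by
      obtain ⟨m, hm, hm'⟩ := hb C
      refine ⟨m, hm, ?_⟩
      rw [← map_pow, h0Cl_eq_hh, ← hh_bc_ac]
      exact hm'
  refine ⟨a, ha, fun j hj c hc => ?_⟩
  have := h0Cl_ne_zero_of_effCl (AlgebraicClosure k) (h j hj _ (isNum_bc k (AlgebraicClosure k) hproj hc))
  rwa [h0Cl_eq_hh, ← map_pow, ← map_mul, ← hh_bc_ac] at this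

end field

end Groth.Agent.NumTriv23

end
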